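import Mathlib

/-!
# Maps out of constant sheaves on over-sites
-/

set_option autoImplicit false
set_option linter.style.haveILetI false
set_option linter.unusedSectionVars false
set_option backward.isDefEq.respectTransparency false
set_option backward.isDefEq.respectTransparency.types false
set_option maxHeartbeats 800000

universe u

noncomputable section

namespace Groth.Agent.ProEtLC

open CategoryTheory Limits Opposite

variable {Λ : Type (u + 1)} [CommRing Λ] {C : Type (u + 1)} [Category.{u} C] {J : GrothendieckTopology C}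
  [HasWeakSheafify J (ModuleCat.{u + 1} Λ)]

/-- The constant sheaf. -/
abbrev cst (J : GrothendieckTopology C) [HasWeakSheafify J (ModuleCat.{u + 1} Λ)] (M : ModuleCat.{u + 1} Λ) :
    Sheaf J (ModuleCat.{u + 1} Λ) :=
  (constantSheaf J (ModuleCat.{u + 1} Λ)).obj M

/-- The sections of the constant sheaf given by the elements of `M`. -/
abbrev gen (J : GrothendieckTopology C) [HasWeakSheafify J (ModuleCat.{u + 1} Λ)] (M : ModuleCat.{u + 1} Λ) :
    (Functor.const Cᵒᵖ).obj M ⟶ (cst J M).obj :=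
  CategoryTheory.toSheafify J _

variable {M : ModuleCat.{u + 1} Λ} {T T' : C}

theorem gen_map (g : T' ⟶ T) : (gen J M).app (op T) ≫ (cst J M).obj.map g.op = (gen J M).app (op T') :=
  ((gen J M).naturality g.op).symm.trans (Category.id_comp _)

/-- The presheaf map on `Over T` given by the elements of `M`. -/
abbrev genOver (J : GrothendieckTopology C) [HasWeakSheafify J (ModuleCat.{u + 1} Λ)]
    (M : ModuleCat.{u + 1} Λ) (T : C) : (Functor.const (Over T)ᵒᵖ).obj M ⟶ ((cst J M).over T).obj :=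
  { app := fun Y => (gen J M).app (op Y.unop.left)
    naturality := fun _ _ f => (gen J M).naturality f.unop.left.op }

variable [J.WEqualsLocallyBijective (ModuleCat.{u + 1} Λ)] [∀ T : C, (J.over T).WEqualsLocallyBijective (ModuleCat.{u + 1} Λ)]

theorem W_genOver : (J.over T).W (genOver J M T) := by
  have h := J.W_toSheafify ((Functor.const Cᵒᵖ).obj M)
  haveI := h.isLocallyInjective
  haveI := h.isLocallySurjective
  haveI := Presheaf.isLocallyInjective_whisker (J.over T) J (Over.forget T) (gen J M)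
  haveI := Presheaf.isLocallySurjective_whisker (J.over T) J (Over.forget T) (gen J M)
  exact ((J.over T).W_iff_isLocallyBijective _).2
    ⟨‹Presheaf.IsLocallyInjective (J.over T) (Functor.whiskerLeft (Over.forget T).op (gen J M))›,
      ‹Presheaf.IsLocallySurjective (J.over T) (Functor.whiskerLeft (Over.forget T).op (gen J M))›⟩

/-- The value of a map out of the constant sheaf on the elements of `M`. -/
def ev {H : Sheaf J (ModuleCat.{u + 1} Λ)} (φ : (cst J M).over T ⟶ H.over T) : M ⟶ H.obj.obj (op T) :=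
  (gen J M).app (op T) ≫ φ.hom.app (op (Over.mk (𝟙 T)))

theorem genOver_comp_app {H : Sheaf J (ModuleCat.{u + 1} Λ)} (φ : (cst J M).over T ⟶ H.over T) (Y : Over T) :
    (genOver J M T ≫ φ.hom).app (op Y) = ev φ ≫ H.obj.map Y.hom.op := by
  show (gen J M).app (op Y.left) ≫ φ.hom.app (op Y) = _
  rw [← gen_map Y.hom, ev, Category.assoc, Category.assoc]
  exact congrArg ((gen J M).app (op T) ≫ ·) (φ.hom.naturality (Over.homMk Y.hom : Y ⟶ Over.mk (𝟙 T)).op)

theorem hom_ext {H : Sheaf J (ModuleCat.{u + 1} Λ)} {φ ψ : (cst J M).over T ⟶ H.over T} (h : ev φ = ev ψ) :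
    φ = ψ := by
  refine ObjectProperty.hom_ext _ (((W_genOver (J := J) (M := M) (T := T)) _ (H.over T).property).1 ?_)
  refine NatTrans.ext (funext fun Y => ?_)
  exact (genOver_comp_app φ Y.unop).trans ((congrArg (· ≫ H.obj.map Y.unop.hom.op) h).trans (genOver_comp_app ψ Y.unop).symm)

theorem exists_hom (H : Sheaf J (ModuleCat.{u + 1} Λ)) (θ : M ⟶ H.obj.obj (op T)) :
    ∃ φ : (cst J M).over T ⟶ H.over T, ev φ = θ := by
  let p : (Functor.const (Over T)ᵒᵖ).obj M ⟶ (H.over T).obj :=
    { app := fun Y => θ ≫ H.obj.map Y.unop.hom.op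
      naturality := fun Y Y' f => by
        refine (Category.id_comp _).trans ?_
        show θ ≫ H.obj.map Y'.unop.hom.op = (θ ≫ H.obj.map Y.unop.hom.op) ≫ H.obj.map f.unop.left.op
        rw [Category.assoc, ← Functor.map_comp, ← op_comp, Over.w f.unop] }
  obtain ⟨q, hq⟩ := ((W_genOver (J := J) (M := M) (T := T)) _ (H.over T).property).2 p
  refine ⟨⟨q⟩, ?_⟩
  have h := congrArg (fun t => t.app (op (Over.mk (𝟙 T)))) hq
  refine h.trans ?_
  show θ ≫ H.obj.map (𝟙 T).op = θ
  rw [op_id, CategoryTheory.Functor.map_id, Category.comp_id]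

/-- On an over-site the constant sheaf is the restriction of the constant sheaf. -/
theorem nonempty_cst_over [HasWeakSheafify (J.over T) (ModuleCat.{u + 1} Λ)] :
    Nonempty ((constantSheaf (J.over T) (ModuleCat.{u + 1} Λ)).obj M ≅ (cst J M).over T) := by
  haveI := ((J.over T).W_iff (genOver J M T)).1 W_genOver
  exact ⟨asIso ((presheafToSheaf (J.over T) (ModuleCat.{u + 1} Λ)).map (genOver J M T)) ≪≫
    (asIso ((sheafificationAdjunction (J.over T) (ModuleCat.{u + 1} Λ)).counit.app ((cst J M).over T)))⟩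

/-- Restriction along a map. -/
def res {F H : Sheaf J (ModuleCat.{u + 1} Λ)} (g : T' ⟶ T) (φ : F.over T ⟶ H.over T) : F.over T' ⟶ H.over T' :=
  ⟨{ app := fun Y => φ.hom.app (op ((Over.map g).obj Y.unop))
     naturality := fun _ _ f => φ.hom.naturality ((Over.map g).map f.unop).op }⟩

theorem isIso_res {F H : Sheaf J (ModuleCat.{u + 1} Λ)} (g : T' ⟶ T) (φ : F.over T ⟶ H.over T) [IsIso φ] :
    IsIso (res g φ) := by
  refine ⟨res g (inv φ), ?_, ?_⟩
  · refine ObjectProperty.hom_ext _ (NatTrans.ext (funext fun Y => ?_))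
    exact congrArg (fun t : F.over T ⟶ F.over T => t.hom.app (op ((Over.map g).obj Y.unop))) (IsIso.hom_inv_id φ)
  · refine ObjectProperty.hom_ext _ (NatTrans.ext (funext fun Y => ?_))
    exact congrArg (fun t : H.over T ⟶ H.over T => t.hom.app (op ((Over.map g).obj Y.unop))) (IsIso.inv_hom_id φ)

theorem app_congr {F H : Sheaf J (ModuleCat.{u + 1} Λ)} (φ : F.over T ⟶ H.over T) {Z : C} {a b : Z ⟶ T} (h : a = b) :
    φ.hom.app (op (Over.mk a)) = (φ.hom.app (op (Over.mk b)) :) := by
  subst h; rfl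

theorem app_map {F H : Sheaf J (ModuleCat.{u + 1} Λ)} (φ : F.over T ⟶ H.over T) (g : T' ⟶ T) :
    φ.hom.app (op (Over.mk (𝟙 T))) ≫ H.obj.map g.op = F.obj.map g.op ≫ φ.hom.app (op (Over.mk g)) :=
  (φ.hom.naturality (Over.homMk g (Category.comp_id g) : Over.mk g ⟶ Over.mk (𝟙 T)).op).symm

theorem ev_res {H : Sheaf J (ModuleCat.{u + 1} Λ)} (g : T' ⟶ T) (φ : (cst J M).over T ⟶ H.over T) :
    ev (res g φ) = ev φ ≫ H.obj.map g.op := by
  show (gen J M).app (op T') ≫ φ.hom.app (op (Over.mk (𝟙 T' ≫ g))) = _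
  rw [app_congr φ (Category.id_comp g), ev, Category.assoc, app_map φ g, ← Category.assoc, gen_map]

theorem ev_comp {H H' : Sheaf J (ModuleCat.{u + 1} Λ)} (φ : (cst J M).over T ⟶ H.over T) (ψ : H.over T ⟶ H'.over T) :
    ev (φ ≫ ψ) = ev φ ≫ ψ.hom.app (op (Over.mk (𝟙 T))) :=
  (Category.assoc _ _ _).symm

theorem res_comp {F G H : Sheaf J (ModuleCat.{u + 1} Λ)} (g : T' ⟶ T) (φ : F.over T ⟶ G.over T)
    (ψ : G.over T ⟶ H.over T) : res g (φ ≫ ψ) = res g φ ≫ res g ψ := rfl

theorem res_id (F : Sheaf J (ModuleCat.{u + 1} Λ)) (g : T' ⟶ T) : res g (𝟙 (F.over T)) = 𝟙 (F.over T') := rfl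

theorem res_res {F H : Sheaf J (ModuleCat.{u + 1} Λ)} {T'' : C} (h : T'' ⟶ T') (g : T' ⟶ T)
    (φ : F.over T ⟶ H.over T) : res h (res g φ) = res (h ≫ g) φ := by
  refine ObjectProperty.hom_ext _ (NatTrans.ext (funext fun Y => ?_))
  show φ.hom.app (op (Over.mk ((Y.unop.hom ≫ h) ≫ g))) = φ.hom.app (op (Over.mk (Y.unop.hom ≫ h ≫ g)))
  exact app_congr φ (Category.assoc _ _ _)

/-- A map of sheaves on an over-site is an isomorphism if it is one on a covering. -/
theorem isIso_of_res {F H : Sheaf J (ModuleCat.{u + 1} Λ)} {κ : Type*} {W : κ → C} (g : ∀ k, W k ⟶ T)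
    (hg : Sieve.ofArrows W g ∈ J T) (φ : F.over T ⟶ H.over T) (h : ∀ k, IsIso (res (g k) φ)) : IsIso φ := by
  have hcov : ∀ Y : Over T, (Sieve.overEquiv Y).symm ((Sieve.ofArrows W g).pullback Y.hom) ∈ (J.over T) Y := fun Y => by
    rw [GrothendieckTopology.mem_over_iff, OrderIso.apply_symm_apply]
    exact J.pullback_stable Y.hom hg
  have hbij : ∀ {Y Z : Over T} (f : Z ⟶ Y), (Sieve.overEquiv Y).symm ((Sieve.ofArrows W g).pullback Y.hom) f →
      Function.Bijective (φ.hom.app (op Z)) := by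
    rintro Y Z f ⟨_, a, _, ⟨k⟩, e⟩
    have e' : Z.hom = a ≫ g k := (Over.w f).symm.trans e.symm
    haveI := h k
    haveI : IsIso ((res (g k) φ).hom.app (op (Over.mk a))) :=
      inferInstanceAs (IsIso (((sheafToPresheaf _ _).map (res (g k) φ)).app (op (Over.mk a))))
    have hb := ConcreteCategory.bijective_of_isIso ((res (g k) φ).hom.app (op (Over.mk a)))
    have e2 : φ.hom.app (op (Over.mk Z.hom)) = (φ.hom.app (op (Over.mk (a ≫ g k))) :) := app_congr φ e'
    rw [show φ.hom.app (op Z) = _ from e2]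
    exact hb
  haveI : Sheaf.IsLocallyInjective φ := ⟨fun {Y} s s' e => by
    refine GrothendieckTopology.superset_covering _ ?_ (hcov Y.unop)
    intro Z f hf
    refine (hbij f hf).1 ?_
    exact (NatTrans.naturality_apply φ.hom _ s).trans ((congrArg ((H.over T).obj.map f.op) e).trans
      (NatTrans.naturality_apply φ.hom _ s').symm)⟩
  haveI : Sheaf.IsLocallySurjective φ := ⟨fun {Y} s => by
    refine GrothendieckTopology.superset_covering _ ?_ (hcov Y)
    intro Z f hf
    exact (hbij f hf).2 _⟩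
  exact (Sheaf.isLocallyBijective_iff_isIso φ).1 ⟨inferInstance, inferInstance⟩

end Groth.Agent.ProEtLC
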