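import Groth.Agent.ProEtFull.IndBasis
import Groth.Agent.ProEtLC.OverConst

/-!
# Sheaves on the pro-étale site whose sections commute with affine limits
-/

set_option autoImplicit false
set_option linter.style.haveILetI false
set_option linter.unusedSectionVars false
set_option backward.isDefEq.respectTransparency false
set_option backward.isDefEq.respectTransparency.types false
set_option maxHeartbeats 800000

universe u

noncomputable section

namespace Groth.Agent.ProEtLC

open CategoryTheory Limits AlgebraicGeometry Opposite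

variable (Λ : Type (u + 1)) [CommRing Λ] {X : Scheme.{u}}

/-- A cofiltered system of affine objects of the pro-étale site with its limit. -/
structure LSys (X : Scheme.{u}) : Type (u + 2) where
  I : Type u
  [instPre : Preorder I]
  [instDir : IsDirected I (· ≤ ·)]
  [instNe : Nonempty I]
  D : Iᵒᵖ ⥤ X.ProEt
  c : Cone D
  aff : ∀ a, IsAffine (D.obj a).left
  hc : IsLimit ((Scheme.ProEt.forget X ⋙ Over.forget X).mapCone c)

attribute [instance] LSys.instPre LSys.instDir LSys.instNe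

namespace LSys

variable (S : LSys X)

/-- Stage. -/
abbrev St (a : S.I) : X.ProEt := S.D.obj (op a)

/-- Projection. -/
abbrev π (a : S.I) : S.c.pt ⟶ S.St a := S.c.π.app (op a)

/-- Transition. -/
abbrev tr {a b : S.I} (h : a ≤ b) : S.St b ⟶ S.St a := S.D.map (homOfLE h).op

theorem π_tr {a b : S.I} (h : a ≤ b) : S.π b ≫ S.tr h = S.π a := S.c.w (homOfLE h).op

theorem tr_tr {a b d : S.I} (h : a ≤ b) (h' : b ≤ d) : S.tr h' ≫ S.tr h = S.tr (h.trans h') := by
  rw [LSys.tr, LSys.tr, ← Functor.map_comp]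
  rfl

end LSys

variable {Λ}

/-- Sections commute with the limit. -/
def ContAt (H : EtModW.ModP Λ X) (S : LSys X) : Prop :=
  (∀ s : H.obj.obj (op S.c.pt), ∃ (a : S.I) (t : H.obj.obj (op (S.St a))), H.obj.map (S.π a).op t = s) ∧
  ∀ (a : S.I) (t t' : H.obj.obj (op (S.St a))), H.obj.map (S.π a).op t = H.obj.map (S.π a).op t' →
    ∃ (b : S.I) (h : a ≤ b), H.obj.map (S.tr h).op t = H.obj.map (S.tr h).op t'

theorem map_map {H : EtModW.ModP Λ X} {U V W : X.ProEt} (f : V ⟶ U) (g : W ⟶ V) (h : W ⟶ U) (e : g ≫ f = h)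
    (t : H.obj.obj (op U)) : H.obj.map g.op (H.obj.map f.op t) = H.obj.map h.op t := by
  rw [← e, op_comp, Functor.map_comp]
  rfl

section Colim

variable {S : LSys X} {H : EtModW.ModP Λ X}

theorem ContAt.exists_of_le (hH : ContAt H S) (a₀ : S.I) (s : H.obj.obj (op S.c.pt)) :
    ∃ (a : S.I) (_ : a₀ ≤ a) (t : H.obj.obj (op (S.St a))), H.obj.map (S.π a).op t = s := by
  obtain ⟨a, t, rfl⟩ := hH.1 s
  obtain ⟨b, h₀, h⟩ := exists_ge_ge a₀ a
  exact ⟨b, h₀, H.obj.map (S.tr h).op t, map_map _ _ _ (S.π_tr h) t⟩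

/-- Finitely many elements come from one stage. -/
theorem ContAt.exists_fin (hH : ContAt H S) (a₀ : S.I) {n : ℕ} (s : Fin n → H.obj.obj (op S.c.pt)) :
    ∃ (a : S.I) (_ : a₀ ≤ a) (t : Fin n → H.obj.obj (op (S.St a))), ∀ j, H.obj.map (S.π a).op (t j) = s j := by
  classical
  choose a ha t ht using fun j => hH.exists_of_le a₀ (s j)
  obtain ⟨b, hb⟩ := Finset.exists_le (Finset.univ.image a)
  obtain ⟨c, hc₀, hc⟩ := exists_ge_ge a₀ b
  have hle : ∀ j, a j ≤ c := fun j => (hb _ (Finset.mem_image_of_mem a (Finset.mem_univ j))).trans hc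
  exact ⟨c, hc₀, fun j => H.obj.map (S.tr (hle j)).op (t j), fun j => (map_map _ _ _ (S.π_tr (hle j)) _).trans (ht j)⟩

theorem ContAt.exists_eq_fin (hH : ContAt H S) (a : S.I) {n : ℕ} (t t' : Fin n → H.obj.obj (op (S.St a)))
    (e : ∀ j, H.obj.map (S.π a).op (t j) = H.obj.map (S.π a).op (t' j)) :
    ∃ (b : S.I) (h : a ≤ b), ∀ j, H.obj.map (S.tr h).op (t j) = H.obj.map (S.tr h).op (t' j) := by
  classical
  choose b hb hb' using fun j => hH.2 a (t j) (t' j) (e j)
  obtain ⟨d, hd⟩ := Finset.exists_le (insert a (Finset.univ.image b))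
  have hle : ∀ j, b j ≤ d := fun j => hd _ (Finset.mem_insert_of_mem (Finset.mem_image_of_mem b (Finset.mem_univ j)))
  refine ⟨d, hd _ (Finset.mem_insert_self _ _), fun j => ?_⟩
  rw [← map_map _ _ _ (S.tr_tr (hb j) (hle j)) (t j), ← map_map _ _ _ (S.tr_tr (hb j) (hle j)) (t' j), hb' j]

variable {M : ModuleCat.{u + 1} Λ}

theorem ContAt.exists_eq_hom [Module.Finite Λ M] (hH : ContAt H S) (a : S.I) (θ θ' : M ⟶ H.obj.obj (op (S.St a)))
    (e : θ ≫ H.obj.map (S.π a).op = θ' ≫ H.obj.map (S.π a).op) :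
    ∃ (b : S.I) (h : a ≤ b), θ ≫ H.obj.map (S.tr h).op = θ' ≫ H.obj.map (S.tr h).op := by
  obtain ⟨n, m, hm⟩ := Module.Finite.exists_fin (R := Λ) (M := M)
  obtain ⟨b, h, hb⟩ := hH.exists_eq_fin a (fun j => θ (m j)) (fun j => θ' (m j))
    fun j => ConcreteCategory.congr_hom e (m j)
  refine ⟨b, h, ModuleCat.hom_ext (LinearMap.ext_on_range hm fun j => ?_)⟩
  exact hb j

theorem ContAt.exists_hom [Module.FinitePresentation Λ M] (hH : ContAt H S) (a₀ : S.I)
    (θ : M ⟶ H.obj.obj (op S.c.pt)) :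
    ∃ (a : S.I) (_ : a₀ ≤ a) (θ' : M ⟶ H.obj.obj (op (S.St a))), θ' ≫ H.obj.map (S.π a).op = θ := by
  obtain ⟨n, k, f, g, hf, hfg⟩ := Module.FinitePresentation.exists_fin' Λ M
  obtain ⟨a, ha₀, t, ht⟩ := hH.exists_fin a₀ (fun j => θ (f (Pi.basisFun Λ (Fin n) j)))
  let L : (Fin n → Λ) →ₗ[Λ] H.obj.obj (op (S.St a)) := (Pi.basisFun Λ (Fin n)).constr ℕ t
  have hL : (H.obj.map (S.π a).op).hom.comp L = θ.hom.comp f := (Pi.basisFun Λ (Fin n)).ext fun j => by
    show H.obj.map (S.π a).op (L (Pi.basisFun Λ (Fin n) j)) = _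
    rw [show L (Pi.basisFun Λ (Fin n) j) = t j from (Pi.basisFun Λ (Fin n)).constr_basis ℕ t j, ht j]
    rfl
  obtain ⟨b, hab, hb⟩ := hH.exists_eq_fin a (fun j => L (g (Pi.basisFun Λ (Fin k) j))) (fun _ => 0) fun j => by
    rw [map_zero]
    refine (LinearMap.congr_fun hL (g (Pi.basisFun Λ (Fin k) j))).trans ?_
    show θ (f (g _)) = 0
    rw [hfg.apply_apply_eq_zero, map_zero]
  let L' := (H.obj.map (S.tr hab).op).hom.comp L
  have hker : LinearMap.ker f ≤ LinearMap.ker L' := by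
    rw [LinearMap.exact_iff.1 hfg]
    rintro _ ⟨x, rfl⟩
    have : L'.comp g = 0 := (Pi.basisFun Λ (Fin k)).ext fun j => by
      refine (hb j).trans ?_
      rw [map_zero]
      rfl
    exact LinearMap.congr_fun this x
  let φ := (LinearMap.ker f).liftQ L' hker ∘ₗ (f.quotKerEquivOfSurjective hf).symm.toLinearMap
  have hφ : ∀ x, φ (f x) = L' x := fun x => by
    show (LinearMap.ker f).liftQ L' hker ((f.quotKerEquivOfSurjective hf).symm (f x)) = _
    rw [← LinearMap.quotKerEquivOfSurjective_apply_mk f hf, LinearEquiv.symm_apply_apply]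
    exact Submodule.liftQ_apply _ _ _
  refine ⟨b, ha₀.trans hab, ModuleCat.ofHom φ, ModuleCat.hom_ext (LinearMap.ext fun m => ?_)⟩
  obtain ⟨x, rfl⟩ := hf m
  show H.obj.map (S.π b).op (φ (f x)) = θ (f x)
  rw [hφ]
  exact (map_map _ _ _ (S.π_tr hab) (L x)).trans (LinearMap.congr_fun hL x)

end Colim

variable [ProEtS.EpsCont X]

/-- Sheaves coming from the étale site have sections commuting with affine limits. -/
theorem contAt_epsPullMod (A : EtModW.Mod Λ X) (S : LSys X) : ContAt ((EtModW.epsPullMod Λ X).obj A) S := by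
  haveI : IsConnected S.I := IsFiltered.isConnected S.I
  haveI : ∀ (i j : S.Iᵒᵖ) (a : i ⟶ j), IsAffineHom (S.D.map a).left := fun i j a => by
    haveI := S.aff i
    haveI := S.aff j
    infer_instance
  haveI : ∀ i, CompactSpace ↥(S.D.obj i).left := fun i => by
    haveI := S.aff i
    infer_instance
  haveI : ∀ i, QuasiSeparatedSpace ↥(S.D.obj i).left := fun i => by
    haveI := S.aff i
    infer_instance
  let A₀ := (ProEtFull.forgetSh Λ X.smallEtaleTopology).obj A
  obtain ⟨hA⟩ := ProEtFull.nonempty_isColimit_epsPull A₀ S.D S.c S.hc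
  obtain ⟨e, -⟩ := ProEtFull.exists_pullback_forget_iso Λ (K := Scheme.ProEt.topology X) (ProEtS.eps X) A
  let P := ((ProEtFull.forgetSh Λ (Scheme.ProEt.topology X)).obj ((EtModW.epsPullMod Λ X).obj A)).obj
  have hP : IsColimit (P.mapCocone S.c.op) :=
    IsColimit.mapCoconeEquiv ((sheafToPresheaf _ _).mapIso e) hA
  haveI : PreservesColimitsOfShape (S.Iᵒᵖ)ᵒᵖ (forget AddCommGrpCat.{u + 1}) :=
    haveI : PreservesFilteredColimitsOfSize.{u, u} (forget AddCommGrpCat.{u + 1}) := inferInstance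
    PreservesFilteredColimitsOfSize.preserves_filtered_colimits _
  refine ⟨fun s => ?_, fun a t t' h => ?_⟩
  · obtain ⟨j, y, hy⟩ := Concrete.isColimit_exists_rep (S.D.op ⋙ P) hP s
    exact ⟨j.unop.unop, y, hy⟩
  · obtain ⟨k, f, g, hk⟩ := Concrete.isColimit_exists_of_rep_eq (S.D.op ⋙ P) hP (i := op (op a)) (j := op (op a)) t t' h
    exact ⟨k.unop.unop, leOfHom f.unop.unop, by
      rw [Subsingleton.elim g f] at hk
      exact hk⟩

/-- `ε⁻¹` of a constant sheaf is constant. -/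
def constIsoMod (M : ModuleCat.{u + 1} Λ) :
    (EtModW.epsPullMod Λ X).obj (cst X.smallEtaleTopology M) ≅ cst (Scheme.ProEt.topology X) M :=
  let T : IsTerminal (EtCoh.top X) := MorphismProperty.Over.mkIdTerminal _ X
  let T' : IsTerminal ((ProEtS.eps X).obj (EtCoh.top X)) := MorphismProperty.Over.mkIdTerminal _ X
  let i : (ProEtS.eps X).sheafPushforwardContinuous (ModuleCat.{u + 1} Λ) X.smallEtaleTopology (Scheme.ProEt.topology X) ⋙
        (sheafSections X.smallEtaleTopology (ModuleCat.{u + 1} Λ)).obj (op (EtCoh.top X)) ≅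
      (sheafSections (Scheme.ProEt.topology X) (ModuleCat.{u + 1} Λ)).obj (op ((ProEtS.eps X).obj (EtCoh.top X))) :=
    NatIso.ofComponents (fun G => Iso.refl _) (fun φ => (Category.comp_id _).trans (Category.id_comp _).symm)
  (Adjunction.leftAdjointUniq
    (((constantSheafAdj X.smallEtaleTopology (ModuleCat.{u + 1} Λ) T).comp (ProEtFull.epsAdjMod X Λ)).ofNatIsoRight i)
    (constantSheafAdj (Scheme.ProEt.topology X) (ModuleCat.{u + 1} Λ) T')).app M

theorem ContAt.of_iso {G H : EtModW.ModP Λ X} {S : LSys X} (e : G ≅ H) (hG : ContAt G S) : ContAt H S := by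
  have hnat : ∀ {U V : X.ProEt} (g : V ⟶ U) (t : G.obj.obj (op U)),
      H.obj.map g.op (e.hom.hom.app (op U) t) = e.hom.hom.app (op V) (G.obj.map g.op t) :=
    fun g t => (NatTrans.naturality_apply e.hom.hom g.op t).symm
  have hb : ∀ U : X.ProEt, Function.Bijective (e.hom.hom.app (op U)) := fun U => by
    haveI : IsIso (((sheafToPresheaf _ _).map e.hom).app (op U)) := inferInstance
    exact ConcreteCategory.bijective_of_isIso (((sheafToPresheaf _ _).map e.hom).app (op U))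
  refine ⟨fun s => ?_, fun a t t' h => ?_⟩
  · obtain ⟨s', rfl⟩ := (hb _).2 s
    obtain ⟨a, t, rfl⟩ := hG.1 s'
    exact ⟨a, _, hnat _ t⟩
  · obtain ⟨t, rfl⟩ := (hb _).2 t
    obtain ⟨t', rfl⟩ := (hb _).2 t'
    obtain ⟨b, hab, hb'⟩ := hG.2 a t t' ((hb _).1 ((hnat _ t).symm.trans (h.trans (hnat _ t'))))
    exact ⟨b, hab, (hnat _ t).trans ((congrArg _ hb').trans (hnat _ t').symm)⟩

theorem contAt_cst (M : ModuleCat.{u + 1} Λ) (S : LSys X) : ContAt (cst (Scheme.ProEt.topology X) M) S :=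
  (contAt_epsPullMod (cst X.smallEtaleTopology M) S).of_iso (constIsoMod M)

/-- Sheaves isomorphic over an object with such sheaves commute with limits of systems over that object. -/
theorem contAt_of_over_iso {G H : EtModW.ModP Λ X} {W : X.ProEt} (φ : H.over W ⟶ G.over W) [IsIso φ] (S : LSys X)
    (y : ∀ a, S.St a ⟶ W) (hy : ∀ {a b} (h : a ≤ b), S.tr h ≫ y a = y b) (hH : ContAt H S) : ContAt G S := by
  obtain ⟨a₀⟩ := S.instNe
  let z : S.c.pt ⟶ W := S.π a₀ ≫ y a₀
  have hz : ∀ a, S.π a ≫ y a = z := fun a => by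
    obtain ⟨b, h, h₀⟩ := exists_ge_ge a a₀
    show _ = S.π a₀ ≫ y a₀
    rw [← S.π_tr h, ← S.π_tr h₀, Category.assoc, Category.assoc, hy h, hy h₀]
  have hb : ∀ Y : Over W, Function.Bijective (φ.hom.app (op Y)) := fun Y => by
    haveI : IsIso (((sheafToPresheaf _ _).map φ).app (op Y)) := inferInstance
    exact ConcreteCategory.bijective_of_isIso (((sheafToPresheaf _ _).map φ).app (op Y))
  refine ⟨fun s => ?_, fun a t t' h => ?_⟩
  · obtain ⟨s', rfl⟩ := (hb (Over.mk z)).2 s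
    obtain ⟨a, t, rfl⟩ := hH.1 s'
    refine ⟨a, φ.hom.app (op (Over.mk (y a))) t, ?_⟩
    exact (NatTrans.naturality_apply φ.hom (Over.homMk (S.π a) (hz a) : Over.mk z ⟶ Over.mk (y a)).op t).symm
  · obtain ⟨t, rfl⟩ := (hb (Over.mk (y a))).2 t
    obtain ⟨t', rfl⟩ := (hb (Over.mk (y a))).2 t'
    have n1 := fun r => (NatTrans.naturality_apply φ.hom
      (Over.homMk (S.π a) (hz a) : Over.mk z ⟶ Over.mk (y a)).op r)
    obtain ⟨b, hab, he⟩ := hH.2 a t t' ((hb (Over.mk z)).1 ((n1 t).trans (h.trans (n1 t').symm)))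
    refine ⟨b, hab, ?_⟩
    have n2 := fun r => (NatTrans.naturality_apply φ.hom
      (Over.homMk (S.tr hab) (hy hab) : Over.mk (y b) ⟶ Over.mk (y a)).op r)
    exact (n2 t).symm.trans ((congrArg (fun r => φ.hom.app (op (Over.mk (y b))) r) he).trans (n2 t'))

end Groth.Agent.ProEtLC
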