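import Groth.Agent.ProEtLC.Pull

/-!
# Descent for locally trivial sheaves along affine systems
-/

set_option autoImplicit false
set_option linter.style.haveILetI false
set_option linter.unusedSectionVars false
set_option backward.isDefEq.respectTransparency false
set_option backward.isDefEq.respectTransparency.types false
set_option maxHeartbeats 1000000

universe u

noncomputable section

namespace Groth.Agent.ProEtLC

open CategoryTheory Limits AlgebraicGeometry Opposite

variable {Λ : Type (u + 1)} [CommRing Λ] {X : Scheme.{u}}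

/-- Constant pro-étale sheaf. -/
abbrev cP (X : Scheme.{u}) (M : ModuleCat.{u + 1} Λ) : EtModW.ModP Λ X := cst (Scheme.ProEt.topology X) M

/-- `G` is constant with finitely presented value on `T`. -/
def IsTriv (G : EtModW.ModP Λ X) (T : X.ProEt) : Prop :=
  ∃ (M : ModuleCat.{u + 1} Λ), Module.FinitePresentation Λ M ∧ ∃ φ : (cP X M).over T ⟶ G.over T, IsIso φ

theorem IsTriv.of_hom {G : EtModW.ModP Λ X} {T T' : X.ProEt} (g : T' ⟶ T) (h : IsTriv G T) : IsTriv G T' := by
  obtain ⟨M, hM, φ, hφ⟩ := h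
  exact ⟨M, hM, res g φ, isIso_res g φ⟩

/-- Every affine object has a finite affine family on whose members `G` is constant. -/
def LocTriv (G : EtModW.ModP Λ X) : Prop :=
  ∀ T : X.ProEt, IsAffine T.left → ∃ F : AffFam T, ∀ k, IsTriv G (F.W k)

theorem eq_of_fam (G : EtModW.ModP Λ X) {T : X.ProEt} (hT : IsAffine T.left) (F : AffFam T) (t t' : G.obj.obj (op T))
    (h : ∀ k, G.obj.map (F.g k).op t = G.obj.map (F.g k).op t') : t = t' := by
  let P : Sheaf (Scheme.ProEt.topology X) (Type (u + 1)) :=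
    (sheafCompose (Scheme.ProEt.topology X) (forget (ModuleCat.{u + 1} Λ))).obj G
  refine ((Presieve.isSheafFor_iff_generate _).2
    ((isSheaf_iff_isSheaf_of_type _ _).1 P.property _ (F.mem hT))).isSeparatedFor.ext ?_
  rintro Z f ⟨k⟩
  exact h k

theorem exists_glue (G : EtModW.ModP Λ X) {T : X.ProEt} (hT : IsAffine T.left) (F : AffFam T)
    (t : ∀ k, G.obj.obj (op (F.W k)))
    (h : ∀ k l (Z : X.ProEt) (a : Z ⟶ F.W k) (b : Z ⟶ F.W l), a ≫ F.g k = b ≫ F.g l →
      G.obj.map a.op (t k) = G.obj.map b.op (t l)) :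
    ∃ s : G.obj.obj (op T), ∀ k, G.obj.map (F.g k).op s = t k := by
  let P : Sheaf (Scheme.ProEt.topology X) (Type (u + 1)) :=
    (sheafCompose (Scheme.ProEt.topology X) (forget (ModuleCat.{u + 1} Λ))).obj G
  have hS := (Presieve.isSheafFor_iff_generate _).2
    ((isSheaf_iff_isSheaf_of_type _ _).1 P.property _ (F.mem hT))
  rw [Presieve.isSheafFor_arrows_iff] at hS
  obtain ⟨s, hs, -⟩ := hS t fun k l Z a b e => h k l Z a b e
  exact ⟨s, hs⟩

variable [ProEtS.EpsCont X]

theorem contAt_of_triv {G : EtModW.ModP Λ X} {W : X.ProEt} (hW : IsTriv G W) (S : LSys X)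
    (y : ∀ a, S.St a ⟶ W) (hy : ∀ {a b} (h : a ≤ b), S.tr h ≫ y a = y b) : ContAt G S := by
  obtain ⟨M, -, φ, hφ⟩ := hW
  exact contAt_of_over_iso φ S y hy (contAt_cst M S)

theorem contAt_pullSys {G : EtModW.ModP Λ X} {S : LSys X} {a₀ : S.I} {W : X.ProEt} (g : W ⟶ S.St a₀)
    (hW : IsAffine W.left) (h : IsTriv G W) : ContAt G (pullSys S a₀ g hW) :=
  contAt_of_triv h _ (pullFst S a₀ g hW) fun h => pullSys_tr_fst S a₀ g hW h

/-- Locally constant sheaves have sections commuting with affine limits. -/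
theorem contAt_of_locTriv {G : EtModW.ModP Λ X} (hG : LocTriv G) (S : LSys X) : ContAt G S := by
  classical
  have affSt : ∀ a, IsAffine (S.St a).left := fun a => S.aff (op a)
  have hinj : ∀ (a : S.I) (t t' : G.obj.obj (op (S.St a))), G.obj.map (S.π a).op t = G.obj.map (S.π a).op t' →
      ∃ (b : S.I) (h : a ≤ b), G.obj.map (S.tr h).op t = G.obj.map (S.tr h).op t' := fun a t t' e => by
    obtain ⟨F, hF⟩ := hG (S.St a) (affSt a)
    haveI := Fintype.ofFinite F.κ
    let a' : ∀ k, (pullSys S a (F.g k) (F.aff k)).I := fun k => ⟨a, le_rfl⟩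
    have hk : ∀ k, ∃ (b : (pullSys S a (F.g k) (F.aff k)).I) (h : a' k ≤ b),
        G.obj.map ((pullSys S a (F.g k) (F.aff k)).tr h).op (G.obj.map (pullSnd S a (F.g k) (F.aff k) (a' k)).op t) =
          G.obj.map ((pullSys S a (F.g k) (F.aff k)).tr h).op (G.obj.map (pullSnd S a (F.g k) (F.aff k) (a' k)).op t') :=
      fun k => (contAt_pullSys (F.g k) (F.aff k) (hF k)).2 (a' k) _ _ (by
        rw [map_map _ _ _ (pullSys_π_snd S a (F.g k) (F.aff k) (a' k)) t, map_map _ _ _ (pullSys_π_snd S a (F.g k) (F.aff k) (a' k)) t',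
          ← map_map (S.π a) _ _ rfl t, ← map_map (S.π a) _ _ rfl t', e])
    choose b hb hb' using hk
    obtain ⟨c, hc⟩ := Finset.exists_le (insert a (Finset.univ.image fun k => (b k).1))
    have hac : a ≤ c := hc _ (Finset.mem_insert_self _ _)
    refine ⟨c, hac, ?_⟩
    haveI := affSt a
    haveI := affSt c
    refine eq_of_fam G (affSt c) (F.pull (S.tr hac)) _ _ fun (k : F.κ) => ?_
    have hbc : b k ≤ (⟨c, hac⟩ : Above S a) :=
      hc _ (Finset.mem_insert_of_mem (Finset.mem_image_of_mem (fun k => (b k).1) (Finset.mem_univ k)))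
    have e1 := congrArg (fun r => G.obj.map ((pullSys S a (F.g k) (F.aff k)).tr hbc).op r) (hb' k)
    rw [map_map _ _ _ (pullSys_tr_snd S a (F.g k) (F.aff k) (hb k)) t,
      map_map _ _ _ (pullSys_tr_snd S a (F.g k) (F.aff k) (hb k)) t'] at e1
    have e2 : ((pullSys S a (F.g k) (F.aff k)).tr hbc) ≫ pullSnd S a (F.g k) (F.aff k) (b k) ≫ S.tr (hb k) =
        pullSnd S a (F.g k) (F.aff k) (⟨c, hac⟩ : Above S a) ≫ S.tr hac := by
      rw [← Category.assoc, pullSys_tr_snd, Category.assoc, S.tr_tr]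
    rw [map_map _ _ _ e2 t, map_map _ _ _ e2 t'] at e1
    exact (map_map _ _ _ rfl t).trans (e1.trans (map_map _ _ _ rfl t').symm)
  refine ⟨fun s => ?_, hinj⟩
  obtain ⟨a₀⟩ := S.instNe
  obtain ⟨F, hF⟩ := hG (S.St a₀) (affSt a₀)
  haveI := Fintype.ofFinite F.κ
  let P := fun k => pullSys S a₀ (F.g k) (F.aff k)
  let sndI := fun k => pullback.snd (F.g k) (S.π a₀)
  choose b t ht using fun k => (contAt_pullSys (F.g k) (F.aff k) (hF k)).1 (G.obj.map (sndI k).op s)
  obtain ⟨c, hc⟩ := Finset.exists_le (insert a₀ (Finset.univ.image fun k => (b k).1))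
  let c' : Above S a₀ := ⟨c, hc _ (Finset.mem_insert_self _ _)⟩
  have hbc : ∀ k, b k ≤ c' := fun k =>
    hc _ (Finset.mem_insert_of_mem (Finset.mem_image_of_mem (fun k => (b k).1) (Finset.mem_univ k)))
  let t' : ∀ k, G.obj.obj (op ((P k).St c')) := fun k => G.obj.map ((P k).tr (hbc k)).op (t k)
  have ht' : ∀ k, G.obj.map ((P k).π c').op (t' k) = G.obj.map (sndI k).op s := fun k =>
    (map_map _ _ _ ((P k).π_tr (hbc k)) (t k)).trans (ht k)
  -- compatibility at a later stage
  have hkl : ∀ p : F.κ × F.κ, ∃ d : Above S a₀, ∃ h : c' ≤ d, ∀ (Z : X.ProEt) (x : Z ⟶ (P p.1).St d) (y : Z ⟶ (P p.2).St d),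
      x ≫ pullSnd S a₀ (F.g p.1) (F.aff p.1) d = y ≫ pullSnd S a₀ (F.g p.2) (F.aff p.2) d →
      G.obj.map x.op (G.obj.map ((P p.1).tr h).op (t' p.1)) = G.obj.map y.op (G.obj.map ((P p.2).tr h).op (t' p.2)) := by
    rintro ⟨k, l⟩
    let g₂ : pullback (F.g k) (F.g l) ⟶ S.St a₀ := pullback.fst _ _ ≫ F.g k
    haveI := F.aff k
    haveI := F.aff l
    haveI := affSt a₀
    have hW₂ : IsAffine (pullback (F.g k) (F.g l) : X.ProEt).left := isAffine_pullback (F.g k) (F.g l)
    let Q := pullSys S a₀ g₂ hW₂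
    let r₁ : ∀ d : Above S a₀, Q.St d ⟶ (P k).St d := fun d =>
      pullback.lift (pullFst S a₀ g₂ hW₂ d ≫ pullback.fst _ _) (pullSnd S a₀ g₂ hW₂ d) (by
        rw [Category.assoc]; exact pullback.condition)
    let r₂ : ∀ d : Above S a₀, Q.St d ⟶ (P l).St d := fun d =>
      pullback.lift (pullFst S a₀ g₂ hW₂ d ≫ pullback.snd _ _) (pullSnd S a₀ g₂ hW₂ d) (by
        rw [Category.assoc, ← pullback.condition]; exact pullback.condition)
    let m₁ : Q.c.pt ⟶ (P k).c.pt := pullback.lift (pullback.fst g₂ (S.π a₀) ≫ pullback.fst _ _) (pullback.snd _ _) (by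
        rw [Category.assoc]; exact pullback.condition)
    let m₂ : Q.c.pt ⟶ (P l).c.pt := pullback.lift (pullback.fst g₂ (S.π a₀) ≫ pullback.snd _ _) (pullback.snd _ _) (by
        rw [Category.assoc, ← pullback.condition]; exact pullback.condition)
    have hm₁ : Q.π c' ≫ r₁ c' = m₁ ≫ (P k).π c' := by
      refine pullback.hom_ext ?_ ?_
      · rw [Category.assoc, pullback.lift_fst, ← Category.assoc, pullSys_π_fst, Category.assoc, pullSys_π_fst,
          pullback.lift_fst]
      · rw [Category.assoc, pullback.lift_snd, pullSys_π_snd, Category.assoc, pullSys_π_snd, pullback.lift_snd_assoc]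
    have hm₂ : Q.π c' ≫ r₂ c' = m₂ ≫ (P l).π c' := by
      refine pullback.hom_ext ?_ ?_
      · rw [Category.assoc, pullback.lift_fst, ← Category.assoc, pullSys_π_fst, Category.assoc, pullSys_π_fst,
          pullback.lift_fst]
      · rw [Category.assoc, pullback.lift_snd, pullSys_π_snd, Category.assoc, pullSys_π_snd, pullback.lift_snd_assoc]
    have hQ : ContAt G Q := contAt_pullSys g₂ hW₂ ((hF k).of_hom (pullback.fst _ _))
    obtain ⟨d, hd, e⟩ := hQ.2 c' (G.obj.map (r₁ c').op (t' k)) (G.obj.map (r₂ c').op (t' l)) (by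
      rw [map_map _ _ _ hm₁ (t' k), map_map _ _ _ hm₂ (t' l), ← map_map _ m₁ _ rfl (t' k), ← map_map _ m₂ _ rfl (t' l),
        ht' k, ht' l]
      exact (map_map _ _ _ (pullback.lift_snd _ _ _) s).trans (map_map _ _ _ (pullback.lift_snd _ _ _) s).symm)
    refine ⟨d, hd, fun Z x y hxy => ?_⟩
    let z : Z ⟶ Q.St d := pullback.lift (pullback.lift (x ≫ pullFst S a₀ (F.g k) (F.aff k) d)
        (y ≫ pullFst S a₀ (F.g l) (F.aff l) d) (by
          rw [Category.assoc, Category.assoc, show pullFst S a₀ (F.g k) (F.aff k) d ≫ F.g k = _ from pullback.condition,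
            show pullFst S a₀ (F.g l) (F.aff l) d ≫ F.g l = _ from pullback.condition, ← Category.assoc, ← Category.assoc,
            hxy]))
      (x ≫ pullSnd S a₀ (F.g k) (F.aff k) d) (by
        rw [pullback.lift_fst_assoc, Category.assoc, Category.assoc,
          show pullFst S a₀ (F.g k) (F.aff k) d ≫ F.g k = _ from pullback.condition])
    have hz₁ : z ≫ Q.tr hd ≫ r₁ c' = x ≫ (P k).tr hd := by
      refine pullback.hom_ext ?_ ?_
      · rw [Category.assoc, Category.assoc, pullback.lift_fst, ← Category.assoc (Q.tr hd), pullSys_tr_fst,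
          pullback.lift_fst_assoc, pullback.lift_fst, Category.assoc, pullSys_tr_fst]
      · rw [Category.assoc, Category.assoc, pullback.lift_snd, pullSys_tr_snd, pullback.lift_snd_assoc,
          Category.assoc, Category.assoc, pullSys_tr_snd]
    have hz₂ : z ≫ Q.tr hd ≫ r₂ c' = y ≫ (P l).tr hd := by
      refine pullback.hom_ext ?_ ?_
      · rw [Category.assoc, Category.assoc, pullback.lift_fst, ← Category.assoc (Q.tr hd), pullSys_tr_fst,
          pullback.lift_fst_assoc, pullback.lift_snd, Category.assoc, pullSys_tr_fst]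
      · rw [Category.assoc, Category.assoc, pullback.lift_snd, pullSys_tr_snd, pullback.lift_snd_assoc,
          hxy, Category.assoc, Category.assoc, pullSys_tr_snd]
    have e2 := congrArg (fun r => G.obj.map z.op r) e
    rw [map_map _ _ _ rfl (t' k), map_map _ _ _ rfl (t' l)]
    rw [map_map _ _ _ rfl (t' k), map_map _ _ _ rfl (t' l), map_map _ _ _ hz₁ (t' k), map_map _ _ _ hz₂ (t' l)] at e2
    exact e2
  choose d hd hd' using hkl
  obtain ⟨e, he⟩ := Finset.exists_le (insert c (Finset.univ.image fun p => (d p).1))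
  let e' : Above S a₀ := ⟨e, c'.2.trans (he _ (Finset.mem_insert_self _ _))⟩
  have hce : c' ≤ e' := he _ (Finset.mem_insert_self _ _)
  have hde : ∀ p, d p ≤ e' := fun p =>
    he _ (Finset.mem_insert_of_mem (Finset.mem_image_of_mem (fun p => (d p).1) (Finset.mem_univ p)))
  haveI := affSt a₀
  haveI := affSt e
  obtain ⟨r, hr⟩ := exists_glue G (affSt e) (F.pull (S.tr e'.2))
    (fun k => G.obj.map ((P k).tr hce).op (t' k)) (fun k l Z x y hxy => by
      have h := hd' (k, l) Z (x ≫ (P k).tr (hde (k, l))) (y ≫ (P l).tr (hde (k, l))) (by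
        rw [Category.assoc, Category.assoc, pullSys_tr_snd, pullSys_tr_snd, ← Category.assoc, ← Category.assoc]
        exact congrArg (· ≫ S.tr (hde (k, l))) hxy)
      have ek : (x ≫ (P k).tr (hde (k, l))) ≫ (P k).tr (hd (k, l)) = x ≫ (P k).tr hce := by
        rw [Category.assoc, (P k).tr_tr]
      have el : (y ≫ (P l).tr (hde (k, l))) ≫ (P l).tr (hd (k, l)) = y ≫ (P l).tr hce := by
        rw [Category.assoc, (P l).tr_tr]
      rw [map_map _ _ _ ek (t' k), map_map _ _ _ el (t' l)] at h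
      exact (map_map _ _ _ rfl (t' k)).trans (h.trans (map_map _ _ _ rfl (t' l)).symm))
  refine ⟨e, r, ?_⟩
  -- on the limit
  haveI : IsAffine S.c.pt.left := by
    haveI : ∀ i, IsAffine ((S.D ⋙ toSch X).obj i) := fun i => S.aff i
    exact Scheme.isAffine_of_isLimit _ S.hc
  refine eq_of_fam G inferInstance (F.pull (S.π a₀)) _ _ fun k => ?_
  refine (map_map _ _ _ (pullSys_π_snd S a₀ (F.g k) (F.aff k) e').symm r).trans ?_
  refine (map_map (pullSnd S a₀ (F.g k) (F.aff k) e') ((P k).π e') _ rfl r).symm.trans ?_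
  refine (congrArg (fun q => G.obj.map ((P k).π e').op q) (hr k)).trans ?_
  exact (map_map _ _ _ ((P k).π_tr hce) (t' k)).trans (ht' k)

/-- Morphisms out of a constant sheaf which agree on the limit agree at a stage. -/
theorem exists_res_eq {H : EtModW.ModP Λ X} {S : LSys X} (hH : ContAt H S) {M : ModuleCat.{u + 1} Λ}
    [Module.Finite Λ M] (a : S.I) (φ ψ : (cP X M).over (S.St a) ⟶ H.over (S.St a))
    (e : res (S.π a) φ = res (S.π a) ψ) :
    ∃ (b : S.I) (h : a ≤ b), res (S.tr h) φ = res (S.tr h) ψ := by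
  obtain ⟨b, h, hb⟩ := hH.exists_eq_hom a (ev φ) (ev ψ) (by
    rw [← ev_res (S.π a) φ, ← ev_res (S.π a) ψ, e])
  exact ⟨b, h, hom_ext (by rw [ev_res, ev_res, hb])⟩

/-- Morphisms out of a constant sheaf on the limit come from a stage. -/
theorem exists_res_lift {H : EtModW.ModP Λ X} {S : LSys X} (hH : ContAt H S) {M : ModuleCat.{u + 1} Λ}
    [Module.FinitePresentation Λ M] (a₀ : S.I) (φ : (cP X M).over S.c.pt ⟶ H.over S.c.pt) :
    ∃ (a : S.I) (_ : a₀ ≤ a) (φ' : (cP X M).over (S.St a) ⟶ H.over (S.St a)), res (S.π a) φ' = φ := by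
  obtain ⟨a, ha, θ, hθ⟩ := hH.exists_hom a₀ (ev φ)
  obtain ⟨φ', hφ'⟩ := exists_hom H θ
  exact ⟨a, ha, φ', hom_ext (by rw [ev_res, hφ', hθ])⟩

/-- A map from a constant sheaf which is invertible on the limit is invertible at a stage, for a system over an
object where the target is constant. -/
theorem exists_isIso_stage_triv {G : EtModW.ModP Λ X} {S : LSys X} {W : X.ProEt} (hW : IsTriv G W)
    (y : ∀ a, S.St a ⟶ W) (hy : ∀ {a b} (h : a ≤ b), S.tr h ≫ y a = y b)
    {M : ModuleCat.{u + 1} Λ} [Module.FinitePresentation Λ M] (a : S.I)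
    (φ : (cP X M).over (S.St a) ⟶ G.over (S.St a)) [IsIso (res (S.π a) φ)] :
    ∃ (b : S.I) (h : a ≤ b), IsIso (res (S.tr h) φ) := by
  have hG := contAt_of_triv hW S y hy
  obtain ⟨N, hN, ψ, hψ⟩ := hW
  haveI := hN
  haveI : IsIso (res (y a) ψ) := isIso_res _ _
  -- an inverse at a stage
  obtain ⟨b, hab, w, hw⟩ := exists_res_lift (contAt_cst (X := X) M S) a
    (res (S.π a ≫ y a) ψ ≫ inv (res (S.π a) φ))
  have e1 : res (S.π b) (w ≫ res (S.tr hab) φ) = res (S.π b) (res (y b) ψ) := by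
    rw [res_comp, hw, res_res, S.π_tr, Category.assoc, IsIso.inv_hom_id, Category.comp_id, res_res, ← hy hab,
      ← Category.assoc, S.π_tr]
  obtain ⟨c, hbc, e2⟩ := exists_res_eq hG b _ _ e1
  rw [res_comp, res_res, res_res, S.tr_tr, hy hbc] at e2
  haveI : IsIso (res (y c) ψ) := isIso_res _ _
  haveI : IsIso (res (S.π c) (res (y c) ψ)) := isIso_res _ _
  have e3 : res (S.π c) (res (S.tr (hab.trans hbc)) φ ≫ inv (res (y c) ψ) ≫ res (S.tr hbc) w) =
      res (S.π c) (𝟙 _) := by
    have hinv : res (S.π c) (inv (res (y c) ψ)) = inv (res (S.π c) (res (y c) ψ)) := by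
      refine IsIso.eq_inv_of_hom_inv_id ?_
      rw [← res_comp, IsIso.hom_inv_id, res_id]
    have eA : res (S.π c) (res (S.tr (hab.trans hbc)) φ) = res (S.π a) φ := by rw [res_res, S.π_tr]
    have eB : res (S.π c) (res (S.tr hbc) w) = res (S.π b) w := by rw [res_res, S.π_tr]
    rw [res_comp, res_comp, res_id, hinv, eA, eB, hw]
    have hyc : S.π c ≫ y c = S.π a ≫ y a := by rw [← hy (hab.trans hbc), ← Category.assoc, S.π_tr]
    have e4 : inv (res (S.π c) (res (y c) ψ)) ≫ res (S.π a ≫ y a) ψ = 𝟙 _ := by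
      rw [IsIso.inv_comp_eq, Category.comp_id, res_res, hyc]
    rw [reassoc_of% e4, IsIso.hom_inv_id]
  obtain ⟨d, hcd, e5⟩ := exists_res_eq (contAt_cst (X := X) M S) c _ _ e3
  refine ⟨d, (hab.trans hbc).trans hcd, ?_⟩
  rw [res_comp, res_comp, res_id, res_res, res_res, S.tr_tr] at e5
  refine ⟨res (S.tr hcd) (inv (res (y c) ψ)) ≫ res (S.tr hcd ≫ S.tr hbc) w, e5, ?_⟩
  rw [Category.assoc, ← res_res (S.tr hcd) (S.tr hbc) w, ← S.tr_tr (hab.trans hbc) hcd,
    ← res_res (S.tr hcd) (S.tr (hab.trans hbc)) φ, ← res_comp, ← res_comp, e2, IsIso.inv_hom_id, res_id]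

/-- A map from a constant sheaf to a locally constant one which is invertible on the limit is invertible at a
stage. -/
theorem exists_isIso_stage {G : EtModW.ModP Λ X} (hG : LocTriv G) {S : LSys X}
    {M : ModuleCat.{u + 1} Λ} [Module.FinitePresentation Λ M] (a : S.I)
    (φ : (cP X M).over (S.St a) ⟶ G.over (S.St a)) [IsIso (res (S.π a) φ)] :
    ∃ (b : S.I) (h : a ≤ b), IsIso (res (S.tr h) φ) := by
  classical
  obtain ⟨F, hF⟩ := hG (S.St a) (S.aff (op a))
  haveI := Fintype.ofFinite F.κ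
  let a' : Above S a := ⟨a, le_rfl⟩
  have hk : ∀ k, ∃ (b : Above S a) (h : a' ≤ b),
      IsIso (res ((pullSys S a (F.g k) (F.aff k)).tr h) (res (pullSnd S a (F.g k) (F.aff k) a') φ)) := fun k => by
    haveI : IsIso (res ((pullSys S a (F.g k) (F.aff k)).π a') (res (pullSnd S a (F.g k) (F.aff k) a') φ)) := by
      rw [res_res, pullSys_π_snd, ← res_res]
      exact isIso_res _ _
    exact exists_isIso_stage_triv (hF k) (pullFst S a (F.g k) (F.aff k)) (fun h => pullSys_tr_fst S a _ _ h) a' _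
  choose b hb hb' using hk
  obtain ⟨c, hc⟩ := Finset.exists_le (insert a (Finset.univ.image fun k => (b k).1))
  have hac : a ≤ c := hc _ (Finset.mem_insert_self _ _)
  refine ⟨c, hac, ?_⟩
  haveI : IsAffine (S.St a).left := S.aff (op a)
  haveI : IsAffine (S.St c).left := S.aff (op c)
  refine isIso_of_res _ ((F.pull (S.tr hac)).mem inferInstance) _ fun (k : F.κ) => ?_
  have hbc : b k ≤ (⟨c, hac⟩ : Above S a) :=
    hc _ (Finset.mem_insert_of_mem (Finset.mem_image_of_mem (fun k => (b k).1) (Finset.mem_univ k)))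
  haveI := hb' k
  have h := isIso_res ((pullSys S a (F.g k) (F.aff k)).tr hbc)
    (res ((pullSys S a (F.g k) (F.aff k)).tr (hb k)) (res (pullSnd S a (F.g k) (F.aff k) a') φ))
  rw [res_res, res_res, LSys.tr_tr, pullSys_tr_snd, ← res_res] at h
  exact h

end Groth.Agent.ProEtLC
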