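import Groth.Agent.ProEtLC.Descent

/-!
# Locally constant sheaves of finitely presented modules on the étale and pro-étale sites
-/

set_option autoImplicit false
set_option linter.style.haveILetI false
set_option linter.unusedSectionVars false
set_option backward.isDefEq.respectTransparency false
set_option backward.isDefEq.respectTransparency.types false
set_option maxHeartbeats 1000000

universe u

noncomputable section

namespace Groth.Agent.ProEtLC

open CategoryTheory Limits AlgebraicGeometry Opposite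

variable {Λ : Type (u + 1)} [CommRing Λ] {X : Scheme.{u}} [ProEtS.EpsCont X]

/-- `ε_*` on modules. -/
abbrev epsPushM : EtModW.ModP Λ X ⥤ EtModW.Mod Λ X :=
  (ProEtS.eps X).sheafPushforwardContinuous (ModuleCat.{u + 1} Λ) X.smallEtaleTopology (Scheme.ProEt.topology X)

/-- Constant étale sheaf. -/
abbrev cE (X : Scheme.{u}) (M : ModuleCat.{u + 1} Λ) : EtModW.Mod Λ X := cst X.smallEtaleTopology M

/-- `C ≅ ε_* C` for a constant sheaf. -/
def cEP (M : ModuleCat.{u + 1} Λ) : cE X M ⟶ epsPushM.obj (cP X M) :=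
  (ProEtFull.epsAdjMod X Λ).unit.app (cE X M) ≫ epsPushM.map (constIsoMod M).hom

instance isIso_cEP (M : ModuleCat.{u + 1} Λ) : IsIso (cEP (X := X) M) := by
  haveI := ProEtFull.isIso_epsAdjMod_unit X Λ
  haveI : IsIso ((ProEtFull.epsAdjMod X Λ).unit.app (cE X M)) := inferInstance
  unfold cEP
  infer_instance

theorem gen_cEP (M : ModuleCat.{u + 1} Λ) (U : X.Etale) :
    (gen X.smallEtaleTopology M).app (op U) ≫ (cEP M).hom.app (op U) =
      (gen (Scheme.ProEt.topology X) M).app (op ((ProEtS.eps X).obj U)) := by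
  let T : IsTerminal (EtCoh.top X) := MorphismProperty.Over.mkIdTerminal _ X
  have key : (gen X.smallEtaleTopology M).app (op (EtCoh.top X)) ≫ (cEP M).hom.app (op (EtCoh.top X)) =
      (gen (Scheme.ProEt.topology X) M).app (op ((ProEtS.eps X).obj (EtCoh.top X))) := by
    let T' : IsTerminal ((ProEtS.eps X).obj (EtCoh.top X)) := MorphismProperty.Over.mkIdTerminal _ X
    let i : (ProEtS.eps X).sheafPushforwardContinuous (ModuleCat.{u + 1} Λ) X.smallEtaleTopology (Scheme.ProEt.topology X) ⋙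
          (sheafSections X.smallEtaleTopology (ModuleCat.{u + 1} Λ)).obj (op (EtCoh.top X)) ≅
        (sheafSections (Scheme.ProEt.topology X) (ModuleCat.{u + 1} Λ)).obj (op ((ProEtS.eps X).obj (EtCoh.top X))) :=
      NatIso.ofComponents (fun G => Iso.refl _) (fun φ => (Category.comp_id _).trans (Category.id_comp _).symm)
    let a₁ := ((constantSheafAdj X.smallEtaleTopology (ModuleCat.{u + 1} Λ) T).comp (ProEtFull.epsAdjMod X Λ)).ofNatIsoRight i
    let a₂ := constantSheafAdj (Scheme.ProEt.topology X) (ModuleCat.{u + 1} Λ) T'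
    have h := Adjunction.unit_leftAdjointUniq_hom_app a₁ a₂ M
    have hu : ∀ {C : Type (u + 1)} [Category.{u} C] (J : GrothendieckTopology C) [HasWeakSheafify J (ModuleCat.{u + 1} Λ)]
        (T : C) (hT : IsTerminal T), (constantSheafAdj J (ModuleCat.{u + 1} Λ) hT).unit.app M = (gen J M).app (op T) :=
      fun J _ T hT => by simp [constantSheafAdj, constantPresheafAdj, gen, Adjunction.comp]
    rw [hu] at h
    have h1 : a₁.unit.app M = (gen X.smallEtaleTopology M).app (op (EtCoh.top X)) ≫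
        ((ProEtFull.epsAdjMod X Λ).unit.app (cE X M)).hom.app (op (EtCoh.top X)) := by
      simp [a₁, i, hu, Adjunction.ofNatIsoRight, Adjunction.comp]
    refine Eq.trans ?_ h
    rw [h1]
    exact (Category.assoc _ _ _).symm
  refine ((congrArg (· ≫ (cEP M).hom.app (op U)) (gen_map (J := X.smallEtaleTopology) (M := M) (T.from U)).symm).trans
    (Category.assoc _ _ _)).trans ?_
  rw [(cEP M).hom.naturality, ← Category.assoc, key]
  exact gen_map ((ProEtS.eps X).map (T.from U))

/-- Restriction of a map to the étale site. -/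
def etRes {A B : EtModW.ModP Λ X} {U : X.Etale}
    (φ : A.over ((ProEtS.eps X).obj U) ⟶ B.over ((ProEtS.eps X).obj U)) :
    (epsPushM.obj A).over U ⟶ (epsPushM.obj B).over U :=
  ⟨{ app := fun Y => φ.hom.app (op ((Over.post (ProEtS.eps X)).obj Y.unop))
     naturality := fun _ _ f => φ.hom.naturality ((Over.post (ProEtS.eps X)).map f.unop).op }⟩

theorem isIso_etRes {A B : EtModW.ModP Λ X} {U : X.Etale}
    (φ : A.over ((ProEtS.eps X).obj U) ⟶ B.over ((ProEtS.eps X).obj U)) [IsIso φ] : IsIso (etRes φ) := by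
  refine ⟨etRes (inv φ), ?_, ?_⟩
  · refine ObjectProperty.hom_ext _ (NatTrans.ext (funext fun Y => ?_))
    exact congrArg (fun t : A.over ((ProEtS.eps X).obj U) ⟶ A.over ((ProEtS.eps X).obj U) =>
      t.hom.app (op ((Over.post (ProEtS.eps X)).obj Y.unop))) (IsIso.hom_inv_id φ)
  · refine ObjectProperty.hom_ext _ (NatTrans.ext (funext fun Y => ?_))
    exact congrArg (fun t : B.over ((ProEtS.eps X).obj U) ⟶ B.over ((ProEtS.eps X).obj U) =>
      t.hom.app (op ((Over.post (ProEtS.eps X)).obj Y.unop))) (IsIso.inv_hom_id φ)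

theorem ev_etRes {M : ModuleCat.{u + 1} Λ} {B : EtModW.ModP Λ X} {U : X.Etale}
    (φ : (cP X M).over ((ProEtS.eps X).obj U) ⟶ B.over ((ProEtS.eps X).obj U)) :
    ev (((X.smallEtaleTopology).overPullback _ U).map (cEP M) ≫ etRes φ) = ev φ := by
  show (gen X.smallEtaleTopology M).app (op U) ≫ (cEP M).hom.app (op U) ≫
    φ.hom.app (op (Over.mk ((ProEtS.eps X).map (𝟙 U)))) = _
  rw [app_congr φ ((ProEtS.eps X).map_id U), ← Category.assoc, gen_cEP]
  rfl

/-- The system attached to a limit of affine étale schemes. -/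
def etSys {α : Type u} [Preorder α] [IsDirected α (· ≤ ·)] [Nonempty α] (D : αᵒᵖ ⥤ X.Etale) {V : X.ProEt}
    (π : (Functor.const αᵒᵖ).obj V ⟶ D ⋙ ProEtS.eps X) (hD : ∀ a, IsAffine (D.obj a).left)
    (hc : IsLimit ((Scheme.ProEt.forget X ⋙ Over.forget X).mapCone (Cone.mk V π))) : LSys X where
  I := α
  D := D ⋙ ProEtS.eps X
  c := Cone.mk V π
  aff := hD
  hc := hc

/-- A map from a limit of étale affine schemes to an étale scheme comes from a stage. -/
theorem exists_stage_map {α : Type u} [Preorder α] [IsDirected α (· ≤ ·)] [Nonempty α] (D : αᵒᵖ ⥤ X.Etale) {V : X.ProEt}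
    (π : (Functor.const αᵒᵖ).obj V ⟶ D ⋙ ProEtS.eps X) (hD : ∀ a, IsAffine (D.obj a).left)
    (hc : IsLimit ((Scheme.ProEt.forget X ⋙ Over.forget X).mapCone (Cone.mk V π)))
    (U : X.Etale) (z : V ⟶ (ProEtS.eps X).obj U) :
    ∃ (a : α) (g : D.obj (op a) ⟶ U), π.app (op a) ≫ (ProEtS.eps X).map g = z := by
  haveI : IsConnected α := IsFiltered.isConnected α
  let DS := (D ⋙ ProEtS.eps X) ⋙ toSch X
  let cS : Cone DS := (Scheme.ProEt.forget X ⋙ Over.forget X).mapCone (Cone.mk V π)
  haveI hA : ∀ i, IsAffine (DS.obj i) := fun i => hD i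
  haveI : ∀ {i j} (f : i ⟶ j), IsAffineHom (DS.map f) := fun {i j} f => inferInstance
  haveI : Etale U.hom := U.prop
  let t : DS ⟶ (Functor.const αᵒᵖ).obj X :=
    { app := fun a => (D.obj a).hom
      naturality := fun a b f => (MorphismProperty.Over.w (D.map f)).trans (Category.comp_id _).symm }
  obtain ⟨i, g, hg, hgt⟩ := Scheme.exists_π_app_comp_eq_of_locallyOfFinitePresentation DS t U.hom cS hc z.left (by
    ext a
    exact (MorphismProperty.Over.w (π.app a)).trans (MorphismProperty.Over.w z).symm)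
  refine ⟨i.unop, MorphismProperty.Over.homMk g hgt, ?_⟩
  exact (toSch X).map_injective hg

/-- A map of sheaves with sections commuting with limits over an étale scheme is invertible if its restriction to
the étale site is. -/
theorem isIso_of_etRes {A B : EtModW.ModP Λ X} (hA : ∀ S, ContAt A S) (hB : ∀ S, ContAt B S) {U : X.Etale}
    (φ : A.over ((ProEtS.eps X).obj U) ⟶ B.over ((ProEtS.eps X).obj U)) [IsIso (etRes φ)] : IsIso φ := by
  have het : ∀ Y : Over U, Function.Bijective (φ.hom.app (op ((Over.post (ProEtS.eps X)).obj Y))) := fun Y => by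
    haveI : IsIso (((sheafToPresheaf _ _).map (etRes φ)).app (op Y)) := inferInstance
    exact ConcreteCategory.bijective_of_isIso (((sheafToPresheaf _ _).map (etRes φ)).app (op Y))
  have key : ∀ (V : X.ProEt), ProEtFull.IndV V → ∀ z : V ⟶ (ProEtS.eps X).obj U,
      Function.Bijective (φ.hom.app (op (Over.mk z))) := fun V hV z => by
    obtain ⟨α, _, _, _, D, π, hD, ⟨hc⟩⟩ := hV
    obtain ⟨a, g, hg⟩ := exists_stage_map D π hD hc U z
    let S := etSys D π hD hc
    have hz : ∀ {b : α} (h : a ≤ b), S.π b ≫ (ProEtS.eps X).map (D.map (homOfLE h).op ≫ g) = z := fun {b} h => by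
      rw [Functor.map_comp, ← Category.assoc]
      exact (congrArg (· ≫ (ProEtS.eps X).map g) (S.π_tr h)).trans hg
    have hnat : ∀ {b : α} (h : a ≤ b) (r : A.obj.obj (op (S.St b))),
        φ.hom.app (op (Over.mk z)) (A.obj.map (S.π b).op r) =
          B.obj.map (S.π b).op (φ.hom.app (op ((Over.post (ProEtS.eps X)).obj (Over.mk (D.map (homOfLE h).op ≫ g)))) r) :=
      fun {b} h r => NatTrans.naturality_apply φ.hom
        (Over.homMk (S.π b) (hz h) : Over.mk z ⟶ (Over.post (ProEtS.eps X)).obj (Over.mk (D.map (homOfLE h).op ≫ g))).op r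
    refine ⟨fun s s' e => ?_, fun s => ?_⟩
    · obtain ⟨b, hb, t, rfl⟩ := (hA S).exists_of_le a s
      obtain ⟨c, hc₀, t', rfl⟩ := (hA S).exists_of_le b s'
      have hac : a ≤ c := le_trans (α := α) hb hc₀
      rw [← map_map _ _ _ (S.π_tr hc₀) t] at e ⊢
      obtain ⟨d, hd, hd'⟩ := (hB S).2 c _ _ ((hnat hac _).symm.trans (e.trans (hnat hac t')))
      refine (map_map _ _ _ (S.π_tr hd) _).symm.trans (Eq.trans ?_ (map_map _ _ _ (S.π_tr hd) t'))
      refine congrArg _ ((het (Over.mk (D.map (homOfLE (le_trans (α := α) hac hd)).op ≫ g))).1 ?_)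
      have hw : S.tr hd ≫ (ProEtS.eps X).map (D.map (homOfLE hac).op ≫ g) =
          (ProEtS.eps X).map (D.map (homOfLE (le_trans (α := α) hac hd)).op ≫ g) := by
        rw [Functor.map_comp, Functor.map_comp, ← Category.assoc]
        exact congrArg (· ≫ (ProEtS.eps X).map g) (S.tr_tr (show a ≤ c from hac) hd)
      have n : ∀ r, φ.hom.app (op ((Over.post (ProEtS.eps X)).obj (Over.mk (D.map (homOfLE (le_trans (α := α) hac hd)).op ≫ g))))
          (A.obj.map (S.tr hd).op r) =
          B.obj.map (S.tr hd).op (φ.hom.app (op ((Over.post (ProEtS.eps X)).obj (Over.mk (D.map (homOfLE hac).op ≫ g)))) r) :=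
        fun r => NatTrans.naturality_apply φ.hom
          (Over.homMk (S.tr hd) hw : (Over.post (ProEtS.eps X)).obj (Over.mk (D.map (homOfLE (le_trans (α := α) hac hd)).op ≫ g)) ⟶
            (Over.post (ProEtS.eps X)).obj (Over.mk (D.map (homOfLE hac).op ≫ g))).op r
      exact (n _).trans (hd'.trans (n _).symm)
    · obtain ⟨b, hb, t, rfl⟩ := (hB S).exists_of_le a s
      obtain ⟨r, rfl⟩ := (het (Over.mk (D.map (homOfLE hb).op ≫ g))).2 t
      exact ⟨_, hnat hb r⟩
  haveI : Sheaf.IsLocallyInjective φ := ⟨fun {Y₀} s s' e => by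
    obtain ⟨ι, V, g, hmem, hV⟩ := ProEtFull.exists_indV_cover Y₀.unop.left
    refine GrothendieckTopology.superset_covering _ (S := (Sieve.overEquiv Y₀.unop).symm (Sieve.ofArrows V g)) ?_ (by
      rw [GrothendieckTopology.mem_over_iff, OrderIso.apply_symm_apply]; exact hmem)
    rintro Z f ⟨_, a, _, ⟨j⟩, e'⟩
    let W : Over ((ProEtS.eps X).obj U) := Over.mk (g j ≫ Y₀.unop.hom)
    let a' : Z ⟶ W := Over.homMk a (by
      show a ≫ g j ≫ Y₀.unop.hom = Z.hom
      rw [← Category.assoc, e']; exact Over.w f)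
    let g' : W ⟶ Y₀.unop := Over.homMk (g j)
    have hf : f = a' ≫ g' := Over.OverMorphism.ext (show f.left = a ≫ g j from e'.symm)
    show (A.over _).obj.map f.op s = (A.over _).obj.map f.op s'
    rw [hf, op_comp, Functor.map_comp, ConcreteCategory.comp_apply, ConcreteCategory.comp_apply]
    refine congrArg _ ((key (V j) (hV j) _).1 ?_)
    exact (NatTrans.naturality_apply φ.hom g'.op s).trans ((congrArg ((B.over _).obj.map g'.op) e).trans
      (NatTrans.naturality_apply φ.hom g'.op s').symm)⟩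
  haveI : Sheaf.IsLocallySurjective φ := ⟨fun {Y₀} s => by
    obtain ⟨ι, V, g, hmem, hV⟩ := ProEtFull.exists_indV_cover Y₀.left
    refine GrothendieckTopology.superset_covering _ (S := (Sieve.overEquiv Y₀).symm (Sieve.ofArrows V g)) ?_ (by
      rw [GrothendieckTopology.mem_over_iff, OrderIso.apply_symm_apply]; exact hmem)
    rintro Z f ⟨_, a, _, ⟨j⟩, e'⟩
    let W : Over ((ProEtS.eps X).obj U) := Over.mk (g j ≫ Y₀.hom)
    let a' : Z ⟶ W := Over.homMk a (by
      show a ≫ g j ≫ Y₀.hom = Z.hom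
      rw [← Category.assoc, e']; exact Over.w f)
    let g' : W ⟶ Y₀ := Over.homMk (g j)
    have hf : f = a' ≫ g' := Over.OverMorphism.ext (show f.left = a ≫ g j from e'.symm)
    obtain ⟨t, ht⟩ := (key (V j) (hV j) _).2 ((B.over _).obj.map g'.op s)
    refine ⟨(A.over _).obj.map a'.op t, ?_⟩
    refine (NatTrans.naturality_apply φ.hom a'.op t).trans ((congrArg ((B.over _).obj.map a'.op) ht).trans ?_)
    rw [hf, op_comp, Functor.map_comp, ConcreteCategory.comp_apply]⟩
  exact (Sheaf.isLocallyBijective_iff_isIso φ).1 ⟨inferInstance, inferInstance⟩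

theorem isTriv_of_iso {G : EtModW.ModP Λ X} {T : X.ProEt} {M : ModuleCat.{u + 1} Λ} (hM : Module.FinitePresentation Λ M)
    (e : G.over T ≅ (constantSheaf ((Scheme.ProEt.topology X).over T) (ModuleCat.{u + 1} Λ)).obj M) : IsTriv G T :=
  ⟨M, hM, (nonempty_cst_over (J := Scheme.ProEt.topology X) (T := T)).some.inv ≫ e.inv, inferInstance⟩

/-- `ε⁻¹` preserves locally constant sheaves of finite presentation. -/
theorem isFPLocConstP_epsPull {F : EtModW.Mod Λ X} (hF : EtModW.IsFPLocConst Λ F) :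
    EtModW.IsFPLocConstP Λ ((EtModW.epsPullMod Λ X).obj F) := by
  obtain ⟨ι, U, hU, hM⟩ := hF
  refine ⟨ι, fun i => (ProEtS.eps X).obj (U i), ?_, fun i => ?_⟩
  · have hcov : Sieve.ofArrows U (fun i => (MorphismProperty.Over.homMk (U i).hom : U i ⟶ EtCoh.top X)) ∈
        X.smallEtaleTopology (EtCoh.top X) := by
      rw [Scheme.ofArrows_mem_smallEtaleTopology_iff]
      refine Set.eq_univ_of_forall fun x => Set.mem_iUnion.2 ?_
      obtain ⟨i, y, hy⟩ := hU x
      exact ⟨i, y, hy⟩
    refine GrothendieckTopology.superset_covering _ ?_ ((ProEtSLib.coverPreserving_eps X).cover_preserve hcov)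
    rintro Z f ⟨W, g, h, ⟨_, a, _, ⟨i⟩, rfl⟩, rfl⟩
    rw [Functor.map_comp, ← Category.assoc]
    have e : (ProEtS.eps X).map (MorphismProperty.Over.homMk (U i).hom : U i ⟶ EtCoh.top X) =
        (MorphismProperty.Over.homMk ((ProEtS.eps X).obj (U i)).hom : (ProEtS.eps X).obj (U i) ⟶ ProEtS.topP X) :=
      (toSch X).map_injective rfl
    rw [e]
    exact ⟨_, _, _, ⟨i⟩, rfl⟩
  · obtain ⟨M, i₁, i₂, i₃, ⟨φe⟩⟩ := hM i
    let M' := ModuleCat.of Λ M
    let ψ : (cE X M').over (U i) ⟶ F.over (U i) :=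
      (nonempty_cst_over (J := X.smallEtaleTopology) (T := U i)).some.inv ≫ φe.inv
    let u₀ := (ProEtFull.epsAdjMod X Λ).unit.app F
    obtain ⟨φ, hφ⟩ := exists_hom (J := Scheme.ProEt.topology X) ((EtModW.epsPullMod Λ X).obj F)
      (T := (ProEtS.eps X).obj (U i)) (ev ψ ≫ u₀.hom.app (op (U i)))
    haveI : IsIso u₀ := by
      haveI := ProEtFull.isIso_epsAdjMod_unit X Λ
      infer_instance
    haveI : IsIso (etRes φ) := by
      have h : (X.smallEtaleTopology.overPullback _ (U i)).map (cEP M') ≫ etRes φ =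
          ψ ≫ (X.smallEtaleTopology.overPullback _ (U i)).map u₀ := hom_ext (by
        rw [ev_etRes, hφ, ev_comp]
        rfl)
      haveI : IsIso ((X.smallEtaleTopology.overPullback _ (U i)).map (cEP M') ≫ etRes φ) := by
        rw [h]; infer_instance
      exact IsIso.of_isIso_comp_left ((X.smallEtaleTopology.overPullback _ (U i)).map (cEP M')) _
    haveI : IsIso φ := isIso_of_etRes (fun S => contAt_cst M' S) (fun S => contAt_epsPullMod F S) φ
    exact ⟨M, i₁, i₂, i₃,
      ⟨(asIso φ).symm ≪≫ (nonempty_cst_over (J := Scheme.ProEt.topology X) (T := (ProEtS.eps X).obj (U i))).some.symm⟩⟩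

/-- A sheaf trivialised on a covering is locally trivial on affine objects. -/
theorem locTriv_of_coversP {G : EtModW.ModP Λ X} {ι : Type u} (U : ι → X.ProEt) (hU : EtModW.CoversP U)
    (h : ∀ i, IsTriv G (U i)) : LocTriv G := fun T hT => by
  let t : T ⟶ ProEtS.topP X := MorphismProperty.Over.homMk T.hom
  obtain ⟨F, hF⟩ := exists_affFam hT ((Scheme.ProEt.topology X).pullback_stable t hU)
  refine ⟨F, fun k => ?_⟩
  obtain ⟨_, a, _, ⟨i⟩, -⟩ := hF k
  exact (h i).of_hom a

theorem isIso_epsAdjMod_counit {G : EtModW.ModP Λ X} (hG : LocTriv G) :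
    IsIso ((ProEtFull.epsAdjMod X Λ).counit.app G) := by
  let adj := ProEtFull.epsAdjMod X Λ
  let μ := adj.counit.app G
  haveI := ProEtFull.isIso_epsAdjMod_unit X Λ
  haveI : IsIso (adj.unit.app (epsPushM.obj G)) := inferInstance
  haveI : IsIso (epsPushM.map μ) := IsIso.of_isIso_fac_left (adj.right_triangle_components G)
  have hb : ∀ W : X.Etale, Function.Bijective (μ.hom.app (op ((ProEtS.eps X).obj W))) := fun W => by
    haveI : IsIso (((sheafToPresheaf _ _).map (epsPushM.map μ)).app (op W)) := inferInstance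
    exact ConcreteCategory.bijective_of_isIso (((sheafToPresheaf _ _).map (epsPushM.map μ)).app (op W))
  let μ' := (ProEtFull.forgetSh Λ (Scheme.ProEt.topology X)).map μ
  haveI : IsIso μ' := ProEtFull.isIso_of_bijective_indV μ' fun V hV => by
    obtain ⟨α, _, _, _, D, π, hD, ⟨hc⟩⟩ := hV
    let S := etSys D π hD hc
    have hA : ContAt ((EtModW.epsPullMod Λ X).obj (epsPushM.obj G)) S := contAt_epsPullMod _ S
    have hn : ∀ (b : α) r, μ.hom.app (op V) (((EtModW.epsPullMod Λ X).obj (epsPushM.obj G)).obj.map (S.π b).op r) =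
        G.obj.map (S.π b).op (μ.hom.app (op (S.St b)) r) := fun b r => NatTrans.naturality_apply μ.hom (S.π b).op r
    refine ⟨fun s s' e => ?_, fun s => ?_⟩
    · change μ.hom.app (op V) s = μ.hom.app (op V) s' at e
      obtain ⟨b, t, rfl⟩ := hA.1 s
      obtain ⟨c, hbc, t', rfl⟩ := hA.exists_of_le b s'
      rw [← map_map _ _ _ (S.π_tr hbc) t] at e ⊢
      obtain ⟨d, hd, hd'⟩ := (contAt_of_locTriv hG S).2 c _ _ ((hn c _).symm.trans (e.trans (hn c t')))
      refine (map_map _ _ _ (S.π_tr hd) _).symm.trans (Eq.trans ?_ (map_map _ _ _ (S.π_tr hd) t'))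
      refine congrArg _ ((hb (D.obj (op d))).1 ?_)
      exact (NatTrans.naturality_apply μ.hom (S.tr hd).op _).trans (hd'.trans
        (NatTrans.naturality_apply μ.hom (S.tr hd).op _).symm)
    · obtain ⟨b, t, rfl⟩ := (contAt_of_locTriv hG S).1 s
      obtain ⟨r, rfl⟩ := (hb (D.obj (op b))).2 t
      exact ⟨_, hn b r⟩
  haveI : ∀ V, IsIso (((sheafToPresheaf _ _).map μ).app V) := fun V => by
    haveI : IsIso (((sheafToPresheaf _ _).map μ').app V) := inferInstance
    have := ConcreteCategory.bijective_of_isIso (((sheafToPresheaf _ _).map μ').app V)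
    exact (ConcreteCategory.isIso_iff_bijective _).2 this
  haveI : IsIso ((sheafToPresheaf _ _).map μ) := NatIso.isIso_of_isIso_app _
  exact isIso_of_reflects_iso μ (sheafToPresheaf _ _)

/-- A sheaf locally constant on the pro-étale site is so on the étale site. -/
theorem isFPLocConst_epsPush {G : EtModW.ModP Λ X} {ι : Type u} (U : ι → X.ProEt) (hU : EtModW.CoversP U)
    (h : ∀ i, IsTriv G (U i)) : EtModW.IsFPLocConst Λ (epsPushM.obj G) := by
  have hG := locTriv_of_coversP U hU h
  have hx : ∀ x : X, ∃ (V : X.ProEt) (v : V.left), ProEtFull.IndV V ∧ IsTriv G V ∧ V.hom v = x := fun x => by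
    obtain ⟨_, ⟨(O : X.Opens), hO, rfl⟩, hxO, -⟩ :=
      X.isBasis_affineOpens.exists_subset_of_mem_open (Set.mem_univ x) isOpen_univ
    let T := ProEtWC.opObj (ProEtS.topP X) O
    have hT : IsAffine T.left := hO
    obtain ⟨F, hF⟩ := hG T hT
    obtain ⟨k, w, hw⟩ := F.surj ⟨x, hxO⟩
    obtain ⟨κ, V, g, hmem, hV⟩ := ProEtFull.exists_indV_cover (F.W k)
    obtain ⟨F', hF'⟩ := exists_affFam (F.aff k) hmem
    obtain ⟨k', w', rfl⟩ := F'.surj w
    obtain ⟨_, a, _, ⟨j⟩, e⟩ := hF' k'
    refine ⟨V j, a.left w', hV j, (hF k).of_hom (g j), ?_⟩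
    have e1 : a ≫ g j = F'.g k' := e
    have h1 : (a.left ≫ (V j).hom) w' = (((F'.g k').left ≫ (F.g k).left) ≫ T.hom) w' := by
      rw [MorphismProperty.Over.w a, Category.assoc, MorphismProperty.Over.w (F.g k), MorphismProperty.Over.w (F'.g k')]
      rfl
    rw [Scheme.Hom.comp_apply, Scheme.Hom.comp_apply, Scheme.Hom.comp_apply, hw] at h1
    exact h1
  choose V v hV hT hv using hx
  have key : ∀ x : X, ∃ (W : X.Etale) (M : ModuleCat.{u + 1} Λ), Module.FinitePresentation Λ M ∧
      (∃ w : W.left, W.hom w = x) ∧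
      Nonempty ((epsPushM.obj G).over W ≅ (constantSheaf (X.smallEtaleTopology.over W) (ModuleCat.{u + 1} Λ)).obj M) := by
    intro x
    obtain ⟨α, _, _, _, D, π, hD, ⟨hc⟩⟩ := hV x
    obtain ⟨M, hM, φ, hφ⟩ := hT x
    let S := etSys D π hD hc
    obtain ⟨a₀⟩ := S.instNe
    obtain ⟨a, -, φ', hφ'⟩ := exists_res_lift (contAt_of_locTriv hG S) a₀ (φ : (cP X M).over S.c.pt ⟶ G.over S.c.pt)
    haveI : IsIso (res (S.π a) φ') := hφ' ▸ hφ
    obtain ⟨b, hab, hb⟩ := exists_isIso_stage hG a φ'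
    let W : X.Etale := D.obj (op (show α from b))
    refine ⟨W, M, hM, ⟨(S.π b).left (v x), ?_⟩, ?_⟩
    · refine ((Scheme.Hom.comp_apply (S.π b).left W.hom (v x)).symm.trans ?_).trans (hv x)
      exact congrArg (fun m : (V x).left ⟶ X => m (v x)) (MorphismProperty.Over.w (S.π b))
    · haveI : IsIso (res (S.tr hab) φ' : (cP X M).over ((ProEtS.eps X).obj W) ⟶ G.over ((ProEtS.eps X).obj W)) := hb
      haveI := isIso_etRes (U := W) (res (S.tr hab) φ')
      exact ⟨(asIso (etRes (U := W) (res (S.tr hab) φ'))).symm ≪≫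
        (asIso ((X.smallEtaleTopology.overPullback _ W).map (cEP M))).symm ≪≫
        (nonempty_cst_over (J := X.smallEtaleTopology) (T := W)).some.symm⟩
  choose W M hM hw hiso using key
  exact ⟨X, W, fun x => ⟨x, (hw x).choose, (hw x).choose_spec⟩, fun x => ⟨M x, inferInstance, inferInstance, hM x, hiso x⟩⟩

theorem main :
    (∀ F : EtModW.Mod Λ X, EtModW.IsFPLocConst Λ F →
      EtModW.IsFPLocConstP Λ ((EtModW.epsPullMod Λ X).obj F)) ∧
    ∀ G : EtModW.ModP Λ X, EtModW.IsFPLocConstP Λ G →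
      ∃ F : EtModW.Mod Λ X, EtModW.IsFPLocConst Λ F ∧ Nonempty ((EtModW.epsPullMod Λ X).obj F ≅ G) := by
  refine ⟨fun F hF => isFPLocConstP_epsPull hF, fun G hG => ?_⟩
  obtain ⟨ι, U, hU, hM⟩ := hG
  have h : ∀ i, IsTriv G (U i) := fun i => by
    obtain ⟨M, i₁, i₂, i₃, ⟨e⟩⟩ := hM i
    exact isTriv_of_iso (M := ModuleCat.of Λ M) i₃ e
  haveI := isIso_epsAdjMod_counit (locTriv_of_coversP U hU h)
  exact ⟨epsPushM.obj G, isFPLocConst_epsPush U hU h, ⟨asIso ((ProEtFull.epsAdjMod X Λ).counit.app G)⟩⟩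

end Groth.Agent.ProEtLC
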