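import Groth.Agent.ProEtLC.Cont
import Groth.Agent.S7284
import Groth.Agent.ProEtHomeo.Main

/-!
# Base change of affine systems and finite affine coverings
-/

set_option autoImplicit false
set_option linter.style.haveILetI false
set_option linter.unusedSectionVars false
set_option backward.isDefEq.respectTransparency false
set_option backward.isDefEq.respectTransparency.types false
set_option maxHeartbeats 800000

universe u

noncomputable section

namespace Groth.Agent.ProEtLC

open CategoryTheory Limits AlgebraicGeometry Opposite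

variable {X : Scheme.{u}}

/-- The scheme functor. -/
abbrev toSch (X : Scheme.{u}) : X.ProEt ⥤ Scheme.{u} := Scheme.ProEt.forget X ⋙ Over.forget X

theorem isAffine_pullback {A B U : X.ProEt} (f : A ⟶ U) (g : B ⟶ U) [hA : IsAffine A.left] [hB : IsAffine B.left]
    [hU : IsAffine U.left] : IsAffine (pullback f g : X.ProEt).left := by
  haveI : IsAffine (pullback ((toSch X).map f) ((toSch X).map g)) :=
    (inferInstance : IsAffine (pullback f.left g.left))
  exact .of_isIso ((PreservesPullback.iso (toSch X) f g).hom : _ ⟶ _)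

theorem exists_pullback_point {A B U : X.ProEt} (f : A ⟶ U) (g : B ⟶ U) (x : A.left) (y : B.left)
    (h : f.left x = g.left y) :
    ∃ z : (pullback f g : X.ProEt).left, (pullback.snd f g).left z = y := by
  obtain ⟨z, -, hz⟩ := Scheme.Pullback.exists_preimage_pullback (f := f.left) (g := g.left) x y h
  refine ⟨(PreservesPullback.iso (toSch X) f g).inv z, ?_⟩
  have e := PreservesPullback.iso_inv_snd (toSch X) f g
  exact ((Scheme.Hom.comp_apply _ _ z).symm.trans
    (congrArg (fun m : pullback f.left g.left ⟶ B.left => m z) e)).trans hz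

/-- A finite family of affine objects mapping jointly surjectively to an affine object. -/
structure AffFam (T : X.ProEt) : Type (u + 1) where
  κ : Type u
  [fin : Finite κ]
  W : κ → X.ProEt
  g : ∀ k, W k ⟶ T
  aff : ∀ k, IsAffine (W k).left
  surj : ∀ x : T.left, ∃ k, x ∈ Set.range (g k).left

attribute [instance] AffFam.fin

theorem AffFam.mem {T : X.ProEt} (hT : IsAffine T.left) (F : AffFam T) :
    Sieve.ofArrows F.W F.g ∈ Scheme.ProEt.topology X T :=
  Groth.Agent.S7284.covering_of_finite_affine hT F.aff F.g F.surj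

/-- The pulled back family. -/
@[simps]
def AffFam.pull {T T' : X.ProEt} [IsAffine T.left] [IsAffine T'.left] (F : AffFam T) (h : T' ⟶ T) : AffFam T' where
  κ := F.κ
  W k := pullback (F.g k) h
  g k := pullback.snd (F.g k) h
  aff k := by
    haveI := F.aff k
    exact isAffine_pullback (F.g k) h
  surj x := by
    obtain ⟨k, w, hw⟩ := F.surj (h.left x)
    obtain ⟨z, hz⟩ := exists_pullback_point (F.g k) h w x hw
    exact ⟨k, z, hz⟩

/-- A covering sieve of an affine object contains a finite affine family. -/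
theorem exists_affFam {T : X.ProEt} (hT : IsAffine T.left) {R : Sieve T} (hR : R ∈ Scheme.ProEt.topology X T) :
    ∃ F : AffFam T, ∀ k, R (F.g k) := by
  obtain ⟨n, V, g, hg, hs⟩ := ProEtHomeo.exists_affine_family hT R hR
  exact ⟨⟨ULift.{u} (Fin n), fun k => V k.down, fun k => g k.down, fun k => (hg k.down).1,
    fun x => let ⟨k, hk⟩ := hs x; ⟨⟨k⟩, hk⟩⟩, fun k => (hg k.down).2⟩

section PullSys

variable (S : LSys X) (a₀ : S.I) {W : X.ProEt} (g : W ⟶ S.St a₀) (hW : IsAffine W.left)

/-- The indices above `a₀`. -/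
abbrev Above := {a : S.I // a₀ ≤ a}

instance : IsDirected (Above S a₀) (· ≤ ·) :=
  ⟨fun a b => by
    obtain ⟨c, hac, hbc⟩ := exists_ge_ge a.1 b.1
    exact ⟨⟨c, a.2.trans hac⟩, hac, hbc⟩⟩

theorem tr_self (a : S.I) : S.tr (le_refl a) = 𝟙 (S.St a) := S.D.map_id (op a)

/-- The pulled back diagram. -/
def pullD : (Above S a₀)ᵒᵖ ⥤ X.ProEt where
  obj b := pullback g (S.tr b.unop.2)
  map {b b'} f := pullback.lift (pullback.fst _ _) (pullback.snd _ _ ≫ S.tr (leOfHom f.unop : b.unop.1 ≥ b'.unop.1)) (by
    rw [Category.assoc, S.tr_tr, pullback.condition])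
  map_id b := by
    refine pullback.hom_ext ?_ ?_
    · rw [pullback.lift_fst, Category.id_comp]
    · rw [pullback.lift_snd, Category.id_comp, tr_self, Category.comp_id]
  map_comp {b b' b''} f f' := by
    refine pullback.hom_ext ?_ ?_
    · rw [pullback.lift_fst, Category.assoc, pullback.lift_fst, pullback.lift_fst]
    · rw [pullback.lift_snd, Category.assoc, pullback.lift_snd, pullback.lift_snd_assoc, Category.assoc, S.tr_tr]

/-- The pulled back cone. -/
def pullC : Cone (pullD S a₀ g) where
  pt := pullback g (S.π a₀)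
  π :=
    { app := fun b => pullback.lift (pullback.fst _ _) (pullback.snd _ _ ≫ S.π b.unop.1) (by
        rw [Category.assoc, S.π_tr, pullback.condition])
      naturality := fun b b' f => by
        refine (Category.id_comp _).trans (pullback.hom_ext ?_ ?_)
        · show _ = (_ ≫ pullback.lift _ _ _) ≫ pullback.fst _ _
          rw [pullback.lift_fst, Category.assoc, pullback.lift_fst, pullback.lift_fst]
        · show _ = (_ ≫ pullback.lift _ _ _) ≫ pullback.snd _ _
          rw [pullback.lift_snd, Category.assoc, pullback.lift_snd, pullback.lift_snd_assoc, Category.assoc,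
            S.π_tr] }

theorem nonempty_isLimit_pullC : Nonempty (IsLimit ((toSch X).mapCone (pullC S a₀ g))) := by
  let F := toSch X
  have hm : Monotone (Subtype.val : Above S a₀ → S.I) := fun _ _ h => h
  haveI : hm.functor.Final := hm.final_functor_iff.2 fun a => by
    obtain ⟨c, hc, hc₀⟩ := exists_ge_ge a a₀
    exact ⟨⟨c, hc₀⟩, hc⟩
  let hc' := (Functor.Initial.isLimitWhiskerEquiv hm.functor.op _).symm S.hc
  have hp : ∀ b : Above S a₀, IsPullback (F.map (pullback.fst g (S.tr b.2))) (F.map (pullback.snd g (S.tr b.2)))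
      (F.map g) (F.map (S.tr b.2)) := fun b => (IsPullback.of_hasPullback g (S.tr b.2)).map F
  have hp₀ : IsPullback (F.map (pullback.fst g (S.π a₀))) (F.map (pullback.snd g (S.π a₀)))
      (F.map g) (F.map (S.π a₀)) := (IsPullback.of_hasPullback g (S.π a₀)).map F
  -- the maps of the pulled back system on the factors
  have hD₁ : ∀ {b b' : (Above S a₀)ᵒᵖ} (f : b ⟶ b'),
      F.map ((pullD S a₀ g).map f) ≫ F.map (pullback.fst g (S.tr b'.unop.2)) = F.map (pullback.fst g (S.tr b.unop.2)) :=
    fun f => (F.map_comp _ _).symm.trans (congrArg F.map (pullback.lift_fst _ _ _))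
  have hD₂ : ∀ {b b' : (Above S a₀)ᵒᵖ} (f : b ⟶ b'),
      F.map ((pullD S a₀ g).map f) ≫ F.map (pullback.snd g (S.tr b'.unop.2)) =
        F.map (pullback.snd g (S.tr b.unop.2)) ≫ F.map (S.tr (leOfHom f.unop : b.unop.1 ≥ b'.unop.1)) :=
    fun f => (F.map_comp _ _).symm.trans ((congrArg F.map (pullback.lift_snd _ _ _)).trans (F.map_comp _ _))
  have hπ₁ : ∀ b : (Above S a₀)ᵒᵖ,
      F.map ((pullC S a₀ g).π.app b) ≫ F.map (pullback.fst g (S.tr b.unop.2)) = F.map (pullback.fst g (S.π a₀)) :=
    fun b => (F.map_comp _ _).symm.trans (congrArg F.map (pullback.lift_fst _ _ _))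
  have hπ₂ : ∀ b : (Above S a₀)ᵒᵖ, F.map ((pullC S a₀ g).π.app b) ≫ F.map (pullback.snd g (S.tr b.unop.2)) =
      F.map (pullback.snd g (S.π a₀)) ≫ F.map (S.π b.unop.1) :=
    fun b => (F.map_comp _ _).symm.trans ((congrArg F.map (pullback.lift_snd _ _ _)).trans (F.map_comp _ _))
  let b₀ : Above S a₀ := ⟨a₀, le_rfl⟩
  let t : ∀ s : Cone (pullD S a₀ g ⋙ F), Cone (hm.functor.op ⋙ S.D ⋙ F) := fun s =>
    { pt := s.pt
      π :=
        { app := fun b => s.π.app b ≫ F.map (pullback.snd g (S.tr b.unop.2))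
          naturality := fun b b' f => by
            refine (Category.id_comp _).trans ?_
            refine (congrArg (· ≫ F.map (pullback.snd g (S.tr b'.unop.2))) (s.w f).symm).trans ?_
            refine (Category.assoc _ _ _).trans ((congrArg (s.π.app b ≫ ·) (hD₂ f)).trans ?_)
            exact (Category.assoc _ _ _).symm } }
  have hl : ∀ s : Cone (pullD S a₀ g ⋙ F),
      (s.π.app (op b₀) ≫ F.map (pullback.fst g (S.tr b₀.2))) ≫ F.map g = hc'.lift (t s) ≫ F.map (S.π a₀) := fun s => by
    refine Eq.trans ?_ (hc'.fac (t s) (op b₀)).symm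
    show _ = s.π.app (op b₀) ≫ F.map (pullback.snd g (S.tr b₀.2))
    have e : F.map (S.tr b₀.2) = 𝟙 (F.obj (S.St a₀)) := (congrArg F.map (tr_self S a₀)).trans (F.map_id _)
    refine (Category.assoc _ _ _).trans ((congrArg (s.π.app (op b₀) ≫ ·) (hp b₀).w).trans ?_)
    refine congrArg (s.π.app (op b₀) ≫ ·) ?_
    exact (congrArg (F.map (pullback.snd g (S.tr b₀.2)) ≫ ·) e).trans (Category.comp_id _)
  exact ⟨{
    lift := fun s => hp₀.lift _ (hc'.lift (t s)) (hl s)
    fac := fun s b => by
      show hp₀.lift _ _ (hl s) ≫ F.map ((pullC S a₀ g).π.app b) = s.π.app b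
      refine (hp b.unop).hom_ext ?_ ?_
      · refine (Category.assoc _ _ _).trans ?_
        refine (congrArg (hp₀.lift _ _ (hl s) ≫ ·) (hπ₁ b)).trans ((hp₀.lift_fst _ _ _).trans ?_)
        have hb : b.unop ≥ b₀ := b.unop.2
        exact ((congrArg (· ≫ F.map (pullback.fst g (S.tr b₀.2))) (s.w (homOfLE hb).op).symm).trans
          (Category.assoc _ _ _)).trans (congrArg (s.π.app b ≫ ·) (hD₁ (homOfLE hb).op))
      · refine (Category.assoc _ _ _).trans ?_
        refine (congrArg (hp₀.lift _ _ (hl s) ≫ ·) (hπ₂ b)).trans ?_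
        refine (Category.assoc _ _ _).symm.trans ((congrArg (· ≫ F.map (S.π b.unop.1)) (hp₀.lift_snd _ _ _)).trans ?_)
        exact hc'.fac (t s) b
    uniq := fun s m hm' => by
      refine hp₀.hom_ext ?_ ?_
      · refine Eq.trans ?_ (hp₀.lift_fst _ _ _).symm
        rw [← hm' (op b₀)]
        exact ((Category.assoc _ _ _).trans (congrArg (m ≫ ·) (hπ₁ (op b₀)))).symm
      · refine Eq.trans ?_ (hp₀.lift_snd _ _ _).symm
        refine hc'.uniq (t s) _ fun b => ?_
        show (m ≫ F.map (pullback.snd g (S.π a₀))) ≫ F.map (S.π b.unop.1) = s.π.app b ≫ F.map (pullback.snd g (S.tr b.unop.2))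
        rw [← hm' b, Category.assoc, Category.assoc]
        exact congrArg (m ≫ ·) (hπ₂ b).symm }⟩

/-- The pulled back system. -/
@[reducible]
def pullSys : LSys X where
  I := Above S a₀
  instNe := ⟨⟨a₀, le_rfl⟩⟩
  D := pullD S a₀ g
  c := pullC S a₀ g
  aff b := by
    haveI := hW
    haveI := S.aff (op b.unop.1)
    haveI := S.aff (op a₀)
    exact isAffine_pullback g (S.tr b.unop.2)
  hc := (nonempty_isLimit_pullC S a₀ g).some

/-- Projection to `W`. -/
abbrev pullFst (b : (pullSys S a₀ g hW).I) : (pullSys S a₀ g hW).St b ⟶ W := pullback.fst _ _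

/-- Projection to the original system. -/
abbrev pullSnd (b : (pullSys S a₀ g hW).I) : (pullSys S a₀ g hW).St b ⟶ S.St b.1 := pullback.snd _ _

theorem pullSys_tr_fst {b b' : (pullSys S a₀ g hW).I} (h : b ≤ b') :
    (pullSys S a₀ g hW).tr h ≫ pullFst S a₀ g hW b = pullFst S a₀ g hW b' :=
  pullback.lift_fst _ _ _

theorem pullSys_tr_snd {b b' : (pullSys S a₀ g hW).I} (h : b ≤ b') :
    (pullSys S a₀ g hW).tr h ≫ pullSnd S a₀ g hW b = pullSnd S a₀ g hW b' ≫ S.tr h :=
  pullback.lift_snd _ _ _

theorem pullSys_π_fst (b : (pullSys S a₀ g hW).I) :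
    (pullSys S a₀ g hW).π b ≫ pullFst S a₀ g hW b = pullback.fst g (S.π a₀) :=
  pullback.lift_fst _ _ _

theorem pullSys_π_snd (b : (pullSys S a₀ g hW).I) :
    (pullSys S a₀ g hW).π b ≫ pullSnd S a₀ g hW b = pullback.snd g (S.π a₀) ≫ S.π b.1 :=
  pullback.lift_snd _ _ _

/-- The pullback at a stage. -/
theorem pullSys_St (b : (pullSys S a₀ g hW).I) : (pullSys S a₀ g hW).St b = pullback g (S.tr b.2) := rfl

end PullSys

end Groth.Agent.ProEtLC
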